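import Mathlib

/-!
The arithmetic at the end of the Feit–Higman theorem.
-/

set_option autoImplicit false

namespace Cfsg.Agent.Lib.FeitHigman

open Real

/-- An integer is a divisor of `120` as soon as its totient is at most `4`. -/
theorem dvd_of_totient_le_four {m : ℕ} (hm : m ≠ 0) (h : Nat.totient m ≤ 4) : m ∣ 120 := by
  rw [← Nat.factorization_le_iff_dvd hm (by norm_num)]
  intro p
  by_cases hp : p.Prime
  swap
  · simp [Nat.factorization_eq_zero_of_not_prime _ hp]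
  set k := m.factorization p with hk
  rcases Nat.eq_zero_or_pos k with h0 | h0
  · simp [h0]
  have hdvd : p ^ k ∣ m := Nat.ordProj_dvd m p
  have htot : Nat.totient (p ^ k) ≤ 4 :=
    (Nat.le_of_dvd (Nat.totient_pos.mpr (Nat.pos_of_ne_zero hm))
      (Nat.totient_dvd_of_dvd hdvd)).trans h
  rw [Nat.totient_prime_pow hp h0] at htot
  have hp2 := hp.two_le
  have hpow : 1 ≤ p ^ (k - 1) := Nat.one_le_pow _ _ hp.pos
  have hp5 : p ≤ 5 := by
    have : p - 1 ≤ 4 := le_trans (Nat.le_mul_of_pos_left _ hpow) htot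
    omega
  rw [← hp.pow_dvd_iff_le_factorization (by norm_num)]
  have hk3 : k ≤ 3 := by
    by_contra hk4
    have h2 : 8 ≤ p ^ (k - 1) := le_trans (by norm_num : 8 ≤ 2 ^ 3)
      ((Nat.pow_le_pow_left hp2 3).trans (Nat.pow_le_pow_right hp.pos (by omega)))
    nlinarith [Nat.sub_pos_of_lt hp.one_lt]
  interval_cases p <;> interval_cases k <;> norm_num at *

/-- The minimal polynomial bound: a root `ζ + ζ⁻¹` of a monic rational quadratic. -/
theorem totient_le_of_root {m : ℕ} (hm : m ≠ 0) {α β : ℚ}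
    (h : (2 * cos (2 * π / m)) ^ 2 = α * (2 * cos (2 * π / m)) + β) : Nat.totient m ≤ 4 := by
  set ζ : ℂ := Complex.exp (2 * π * Complex.I / m) with hζ
  have hprim : IsPrimitiveRoot ζ m := Complex.isPrimitiveRoot_exp m hm
  set z : ℝ := 2 * cos (2 * π / m) with hz
  have hne : ζ ≠ 0 := Complex.exp_ne_zero _
  have hzζ : (z : ℂ) = ζ + ζ⁻¹ := by
    rw [hz, hζ, ← Complex.exp_neg]
    push_cast
    rw [Complex.two_cos]
    congr 2 <;> ring
  have hroot : ζ ^ 4 - (α : ℂ) * ζ ^ 3 + (2 - (β : ℂ)) * ζ ^ 2 - (α : ℂ) * ζ + 1 = 0 := by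
    have h' : (ζ + ζ⁻¹) ^ 2 = (α : ℂ) * (ζ + ζ⁻¹) + (β : ℂ) := by
      rw [← hzζ]; exact_mod_cast h
    have h2 : ζ * ζ⁻¹ = 1 := mul_inv_cancel₀ hne
    linear_combination ζ ^ 2 * h' + (α * ζ - 2 * ζ ^ 2 - ζ * ζ⁻¹ - 1) * h2
  let f : Polynomial ℚ := Polynomial.X ^ 4 + Polynomial.C (-α) * Polynomial.X ^ 3 +
    Polynomial.C (2 - β) * Polynomial.X ^ 2 + Polynomial.C (-α) * Polynomial.X + 1
  have hf : f.natDegree = 4 := by
    simp only [f]
    compute_degree!
  have hf0 : f ≠ 0 := fun e => by rw [e, Polynomial.natDegree_zero] at hf; omega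
  have hev : Polynomial.aeval ζ f = 0 := by
    simp [f, Polynomial.aeval_def]
    linear_combination hroot
  have hdvd := minpoly.dvd ℚ ζ hev
  rw [← Polynomial.cyclotomic_eq_minpoly_rat hprim (Nat.pos_of_ne_zero hm)] at hdvd
  have := Polynomial.natDegree_le_of_dvd hdvd hf0
  rwa [Polynomial.natDegree_cyclotomic, hf] at this

theorem totient_le_two_of_rat {m : ℕ} (hm : m ≠ 0) {c : ℚ}
    (h : cos (2 * π / m) = c) : Nat.totient m ≤ 2 := by
  set ζ : ℂ := Complex.exp (2 * π * Complex.I / m) with hζ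
  have hprim : IsPrimitiveRoot ζ m := Complex.isPrimitiveRoot_exp m hm
  have hne : ζ ≠ 0 := Complex.exp_ne_zero _
  have hzζ : ((2 * c : ℚ) : ℂ) = ζ + ζ⁻¹ := by
    rw [show ((2 * c : ℚ) : ℂ) = ((2 * cos (2 * π / m) : ℝ) : ℂ) by rw [h]; push_cast; rfl]
    rw [hζ, ← Complex.exp_neg]
    push_cast
    rw [Complex.two_cos]
    congr 2 <;> ring
  let f : Polynomial ℚ := Polynomial.X ^ 2 + Polynomial.C (-(2 * c)) * Polynomial.X + 1
  have hf : f.natDegree = 2 := by
    simp only [f]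
    compute_degree!
  have hf0 : f ≠ 0 := fun e => by rw [e, Polynomial.natDegree_zero] at hf; omega
  have hev : Polynomial.aeval ζ f = 0 := by
    have h2 : ζ * ζ⁻¹ = 1 := mul_inv_cancel₀ hne
    simp [f, Polynomial.aeval_def]
    push_cast at hzζ
    linear_combination -ζ * hzζ - h2
  have hdvd := minpoly.dvd ℚ ζ hev
  rw [← Polynomial.cyclotomic_eq_minpoly_rat hprim (Nat.pos_of_ne_zero hm)] at hdvd
  have := Polynomial.natDegree_le_of_dvd hdvd hf0
  rwa [Polynomial.natDegree_cyclotomic, hf] at this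

theorem not_rat_sq_eq {n : ℕ} (hn : ¬ IsSquare n) {x : ℝ} (hx : x ^ 2 = n) (u : ℚ) : x ≠ u := by
  rintro rfl
  have h : u ^ 2 = (n : ℚ) := by exact_mod_cast hx
  refine hn ?_
  rw [← Rat.isSquare_natCast_iff]
  exact ⟨u, by rw [← h, pow_two]⟩

/-- The constraint on one angle: `x = 2 √(st) cos θ` satisfies `x² = p x + q` with `p < 0`. -/
def Constraint (D : ℚ) (θ : ℝ) : Prop :=
  ∃ p q : ℚ, p < 0 ∧
    (2 * √(D : ℝ) * cos θ) ^ 2 = (p : ℝ) * (2 * √(D : ℝ) * cos θ) + (q : ℝ)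

theorem Constraint.sq_quadratic {D : ℚ} (hD : 0 < D) {θ : ℝ} (h : Constraint D θ) :
    ∃ α β : ℚ, (4 * cos θ ^ 2) ^ 2 = α * (4 * cos θ ^ 2) + β := by
  obtain ⟨p, q, -, e⟩ := h
  have hr : √(D : ℝ) ^ 2 = D := sq_sqrt (by exact_mod_cast hD.le)
  have hD' : (D : ℝ) ≠ 0 := by exact_mod_cast hD.ne'
  refine ⟨2 * q / D + p ^ 2 / D, -(q ^ 2 / D ^ 2), ?_⟩
  push_cast
  have e1 : (D : ℝ) * (4 * cos θ ^ 2) - q = p * (2 * √(D : ℝ) * cos θ) := by
    rw [sub_eq_iff_eq_add, ← e, ← hr]; rw [hr]; nth_rewrite 1 [← hr]; ring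
  have e2 : ((D : ℝ) * (4 * cos θ ^ 2) - q) ^ 2 = p ^ 2 * (D : ℝ) * (4 * cos θ ^ 2) := by
    rw [e1]; linear_combination (4 * p ^ 2 * cos θ ^ 2 : ℝ) * hr
  field_simp
  linear_combination e2

theorem Constraint.false_five {D : ℚ} (hD : 0 < D) (h : Constraint D (π / 5)) : False := by
  obtain ⟨p, q, hp, e⟩ := h
  rw [cos_pi_div_five] at e
  set y : ℝ := (1 + √5) / 2 with hy
  have h5 : √5 ^ 2 = 5 := sq_sqrt (by norm_num)
  have hyy : y ^ 2 = y + 1 := by rw [hy]; linear_combination h5 / 4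
  set r : ℝ := √(D : ℝ) with hr
  have hrr : r ^ 2 = D := sq_sqrt (by exact_mod_cast hD.le)
  have hrpos : 0 < r := sqrt_pos.mpr (by exact_mod_cast hD)
  have hpr : (p : ℝ) * r < 0 := mul_neg_of_neg_of_pos (by exact_mod_cast hp) hrpos
  have hy1 : (1 : ℝ) < y := by rw [hy]; nlinarith [sqrt_nonneg 5, h5]
  have e1 : (D : ℝ) * (y + 1) = p * r * y + q := by
    rw [← hyy, ← hrr]
    have e' : (r * y) ^ 2 = p * (r * y) + q := by rw [hy]; linear_combination e
    linear_combination e'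
  set B : ℚ := D - q with hB
  have e2 : (p : ℝ) * r = q + B * y := by
    rw [hB]; push_cast
    linear_combination ((D : ℝ) - p * r) * hyy - (y - 1) * e1
  have e3 : ((2 * q * B + B ^ 2 : ℚ) : ℝ) * y = ((p ^ 2 * D - q ^ 2 - B ^ 2 : ℚ) : ℝ) := by
    push_cast
    linear_combination -(p * r + q + B * y) * e2 + (p : ℝ) ^ 2 * hrr - (B : ℝ) ^ 2 * hyy
  have hirr : ∀ u : ℚ, y ≠ u := fun u hu => by
    refine not_rat_sq_eq (n := 5) (fun hs => absurd hs (Nat.not_exists_sq (m := 2) (by norm_num) (by norm_num) |> fun hh ⟨k, hk⟩ => hh ⟨k, hk.symm⟩))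
      (x := √5) (by rw [h5]; norm_num) (2 * u - 1) ?_
    push_cast
    rw [← hu, hy]; ring
  have hcoef : 2 * q * B + B ^ 2 = 0 := by
    by_contra hne
    refine hirr ((p ^ 2 * D - q ^ 2 - B ^ 2) / (2 * q * B + B ^ 2)) ?_
    rw [Rat.cast_div, eq_div_iff (by exact_mod_cast hne), mul_comm]
    exact e3
  rcases mul_eq_zero.mp (show B * (2 * q + B) = 0 by linear_combination hcoef) with h0 | h0
  · rw [h0] at e2
    have hq : q = D := by rw [hB] at h0; linarith
    rw [hq] at e2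
    push_cast at e2
    have : (0 : ℝ) < D := by exact_mod_cast hD
    nlinarith
  · have hq : q = -D := by rw [hB] at h0; linarith
    have hB2 : B = 2 * D := by rw [hB, hq]; ring
    rw [hq, hB2] at e2
    push_cast at e2
    have : (0 : ℝ) < D := by exact_mod_cast hD
    nlinarith

theorem Constraint.false_eight {D : ℚ} (hD : 0 < D) (h : Constraint D (π / 8)) : False := by
  obtain ⟨p, q, -, e⟩ := h
  rw [cos_pi_div_eight] at e
  set r : ℝ := √(D : ℝ) with hr
  have hrr : r ^ 2 = D := sq_sqrt (by exact_mod_cast hD.le)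
  have h2 : √2 ^ 2 = 2 := sq_sqrt (by norm_num)
  set y : ℝ := √(2 + √2) with hy
  have hyy : y ^ 2 = 2 + √2 := sq_sqrt (by positivity)
  have e1 : (D : ℝ) * (2 + √2) - q = p * r * y := by
    rw [← hyy, ← hrr]
    linear_combination e
  have e2 : ((D : ℝ) * (2 + √2) - q) ^ 2 = p ^ 2 * D * (2 + √2) := by
    rw [e1, ← hyy, ← hrr]; ring
  have e3 : ((4 * D ^ 2 - 2 * D * q - p ^ 2 * D : ℚ) : ℝ) * √2 =
      ((-(6 * D ^ 2 - 4 * D * q + q ^ 2 - 2 * p ^ 2 * D) : ℚ) : ℝ) := by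
    push_cast
    linear_combination e2 - (D : ℝ) ^ 2 * h2
  have hirr : ∀ u : ℚ, √2 ≠ u := fun u =>
    not_rat_sq_eq (n := 2) Nat.prime_two.not_isSquare (by rw [h2]; norm_num) u
  have ha : 4 * D ^ 2 - 2 * D * q - p ^ 2 * D = 0 := by
    by_contra hne
    refine hirr (-(6 * D ^ 2 - 4 * D * q + q ^ 2 - 2 * p ^ 2 * D) /
      (4 * D ^ 2 - 2 * D * q - p ^ 2 * D)) ?_
    rw [Rat.cast_div, eq_div_iff (by exact_mod_cast hne), mul_comm]
    exact e3
  rw [ha, Rat.cast_zero, zero_mul] at e3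
  have hb : 6 * D ^ 2 - 4 * D * q + q ^ 2 - 2 * p ^ 2 * D = 0 := by
    have : ((-(6 * D ^ 2 - 4 * D * q + q ^ 2 - 2 * p ^ 2 * D) : ℚ) : ℝ) = 0 := e3.symm
    have := Rat.cast_eq_zero.mp this
    linarith
  have hq : q ^ 2 = 2 * D ^ 2 := by linear_combination hb - 2 * ha
  have : (q / D) ^ 2 = (2 : ℚ) := by field_simp; linarith
  exact Nat.prime_two.not_isSquare (Rat.isSquare_natCast_iff.mp ⟨q / D, by rw [← pow_two, this]; norm_num⟩)

theorem Constraint.sqrt_rat {D : ℚ} (hD : 0 < D) (h : Constraint D (π / 3)) :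
    ∃ u : ℚ, √(D : ℝ) = u := by
  obtain ⟨p, q, hp, e⟩ := h
  rw [cos_pi_div_three] at e
  refine ⟨(D - q) / p, ?_⟩
  have hrr : √(D : ℝ) ^ 2 = D := sq_sqrt (by exact_mod_cast hD.le)
  have hp' : (p : ℝ) ≠ 0 := by exact_mod_cast hp.ne
  push_cast
  field_simp
  linear_combination hrr - e

theorem Constraint.false_six {D : ℚ} (hD : 0 < D) (h : Constraint D (π / 6))
    (h' : Constraint D (π / 3)) : False := by
  obtain ⟨u, hu⟩ := h'.sqrt_rat hD
  obtain ⟨p, q, hp, e⟩ := h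
  rw [cos_pi_div_six, hu] at e
  have h3 : √3 ^ 2 = 3 := sq_sqrt (by norm_num)
  have hu0 : u ≠ 0 := by
    intro h0
    rw [h0, Rat.cast_zero] at hu
    exact (sqrt_pos.mpr (by exact_mod_cast hD : (0:ℝ) < D)).ne' hu
  refine not_rat_sq_eq (n := 3) (by exact Nat.prime_three.not_isSquare) (x := √3) (by rw [h3]; norm_num)
    ((3 * u ^ 2 - q) / (p * u)) ?_
  have hp' : (p : ℝ) ≠ 0 := by exact_mod_cast hp.ne
  have hu' : (u : ℝ) ≠ 0 := by exact_mod_cast hu0
  push_cast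
  field_simp
  linear_combination (u : ℝ) ^ 2 * h3 - e

/-- The even case: the constraint at all angles `kπ/m` leaves `m ≤ 4`. -/
theorem le_four_of_constraint {m : ℕ} {D : ℚ} (hD : 0 < D)
    (h : ∀ k, 1 ≤ k → k < m → Constraint D (k * π / m)) : m ≤ 4 := by
  by_contra hm
  obtain ⟨α, β, e⟩ := (h 1 le_rfl (by omega)).sq_quadratic hD
  have hc : 4 * cos ((1 : ℕ) * π / m) ^ 2 = 2 * cos (2 * π / m) + 2 := by
    rw [cos_sq]; push_cast; ring_nf
  rw [hc] at e
  have htot : Nat.totient m ≤ 4 := totient_le_of_root (by omega)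
    (α := α - 4) (β := 2 * α + β - 4) (by push_cast; linear_combination e)
  have h120 := dvd_of_totient_le_four (by omega) htot
  have hle := Nat.le_of_dvd (by norm_num) h120
  have h5 : m = 5 ∨ m = 6 ∨ m = 8 ∨ m = 10 ∨ m = 12 := by
    interval_cases m <;> first | omega | (revert htot; decide)
  rcases h5 with rfl | rfl | rfl | rfl | rfl
  · exact Constraint.false_five hD (by simpa using h 1 le_rfl (by omega))
  · refine Constraint.false_six hD (by simpa using h 1 le_rfl (by omega)) ?_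
    have := h 2 (by omega) (by omega)
    rwa [show ((2 : ℕ) : ℝ) * π / ((6 : ℕ) : ℝ) = π / 3 by push_cast; ring] at this
  · exact Constraint.false_eight hD (by simpa using h 1 le_rfl (by omega))
  · refine Constraint.false_five hD ?_
    have := h 2 (by omega) (by omega)
    rwa [show ((2 : ℕ) : ℝ) * π / ((10 : ℕ) : ℝ) = π / 5 by push_cast; ring] at this
  · refine Constraint.false_six hD ?_ ?_
    · have := h 2 (by omega) (by omega)
      rwa [show ((2 : ℕ) : ℝ) * π / ((12 : ℕ) : ℝ) = π / 6 by push_cast; ring] at this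
    · have := h 4 (by omega) (by omega)
      rwa [show ((4 : ℕ) : ℝ) * π / ((12 : ℕ) : ℝ) = π / 3 by push_cast; ring] at this

end Cfsg.Agent.Lib.FeitHigman
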