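import Cfsg.Agent.Lib.BNPair.Basic

/-!
The Weyl group of a Tits system of rank two: lengths in a dihedral group.
-/

set_option autoImplicit false

namespace Cfsg.Agent.Lib.FeitHigman

open Cfsg.Agent.Lib.BNPair

variable {G : Type*} [Group G] {P : Cfsg.BNPair G}

/-- The product of the two reflections. -/
abbrev rot (a b : P.S) : W P := refl P a * refl P b

theorem refl_mul_refl_eq (a b : P.S) : refl P b = refl P a * rot a b := by
  rw [rot, refl_mul_cancel]

theorem refl_mul_rot_zpow (a b : P.S) (k : ℤ) :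
    refl P a * rot a b ^ k = rot a b ^ (-k) * refl P a := by
  have h1 : SemiconjBy (refl P a) (rot a b) (rot a b)⁻¹ := by
    show refl P a * (refl P a * refl P b) = (refl P a * refl P b)⁻¹ * refl P a
    rw [mul_inv_rev, refl_inv, refl_inv, refl_mul_cancel, mul_refl_cancel]
  rw [(h1.zpow_right k).eq, inv_zpow, zpow_neg]

theorem reflA_mul (a b : P.S) (k : ℤ) :
    refl P a * (rot a b ^ k * refl P a) = rot a b ^ (-k) := by
  rw [← mul_assoc, refl_mul_rot_zpow, mul_refl_cancel]

theorem reflB_mul (a b : P.S) (k : ℤ) :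
    refl P b * rot a b ^ k = rot a b ^ (-(k + 1)) * refl P a := by
  rw [refl_mul_refl_eq a b, mul_assoc, ← zpow_one_add, refl_mul_rot_zpow, add_comm]

theorem reflB_mul' (a b : P.S) (k : ℤ) :
    refl P b * (rot a b ^ k * refl P a) = rot a b ^ (-(k + 1)) := by
  rw [← mul_assoc, reflB_mul, mul_refl_cancel]

theorem rot_zpow_mul_reflB (a b : P.S) (k : ℤ) :
    rot a b ^ k * refl P b = rot a b ^ (k - 1) * refl P a := by
  have := congrArg (fun x => x⁻¹) (reflB_mul a b (-k))
  simp only [mul_inv_rev, refl_inv, zpow_neg, inv_inv, refl_mul_rot_zpow] at this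
  rw [this, ← zpow_neg]
  congr 2
  ring

theorem rot_zpow_reflA_mul_reflB (a b : P.S) (k : ℤ) :
    rot a b ^ k * refl P a * refl P b = rot a b ^ (k + 1) := by
  rw [mul_assoc, zpow_add_one]

theorem len_parity (L : List P.S) : len P (wprod P L) % 2 = L.length % 2 := by
  induction L with
  | nil => simp [len_one]
  | cons s L ih =>
    rw [wprod_cons, List.length_cons]
    rcases len_refl_mul P s (wprod P L) with h | h <;> omega

theorem len_zpow_le (a b : P.S) (i : ℕ) : len P (rot a b ^ (i : ℤ)) ≤ 2 * i := by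
  induction i with
  | zero => simp [len_one]
  | succ i ih =>
    rw [Nat.cast_succ, add_comm, zpow_one_add, rot, mul_assoc]
    have h1 := len_refl_mul_le P a (refl P b * rot a b ^ (i : ℤ))
    have h2 := len_refl_mul_le P b (rot a b ^ (i : ℤ))
    rw [rot] at ih h2 h1
    omega

theorem len_zpow_neg_le (a b : P.S) (i : ℕ) : len P (rot a b ^ (-(i : ℤ))) ≤ 2 * i := by
  rw [zpow_neg, len_inv]
  exact len_zpow_le a b i

theorem len_zpow_mul_le (a b : P.S) (i : ℕ) :
    len P (rot a b ^ (i : ℤ) * refl P a) ≤ 2 * i + 1 := by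
  rw [← len_inv, mul_inv_rev, refl_inv, ← zpow_neg]
  have h1 := len_refl_mul_le P a (rot a b ^ (-(i : ℤ)))
  have h2 := len_zpow_neg_le a b i
  omega

theorem len_zpow_neg_mul_le (a b : P.S) (i : ℕ) :
    len P (rot a b ^ (-((i : ℤ) + 1)) * refl P a) ≤ 2 * i + 1 := by
  rw [← reflB_mul]
  have h1 := len_refl_mul_le P b (rot a b ^ (i : ℤ))
  have h2 := len_zpow_le a b i
  omega

/-- Every element of length `j` is one of the two alternating products of length `j`. -/
theorem normal_form {a b : P.S} (hab : ∀ x : P.S, x = a ∨ x = b) :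
    ∀ (j : ℕ) (w : W P), len P w = j →
      ∃ l : ℕ, (j = 2 * l ∧ (w = rot a b ^ (l : ℤ) ∨ w = rot a b ^ (-(l : ℤ)))) ∨
        (j = 2 * l + 1 ∧
          (w = rot a b ^ (l : ℤ) * refl P a ∨ w = rot a b ^ (-((l : ℤ) + 1)) * refl P a)) := by
  intro j
  induction j with
  | zero =>
    intro w hw
    exact ⟨0, Or.inl ⟨rfl, Or.inl (by rw [eq_one_of_len_eq_zero P hw]; simp)⟩⟩
  | succ j ih =>
    intro w hw
    obtain ⟨L, hl, rfl⟩ := exists_reduced P w
    cases L with
    | nil => simp [len_one] at hw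
    | cons x L =>
      have hl' : L.length = j := by rw [hw] at hl; simpa using hl
      have h1 := len_le P L
      have h2 := len_refl_mul_le P x (wprod P L)
      rw [wprod_cons] at hw ⊢
      have hj : len P (wprod P L) = j := by omega
      obtain ⟨l, ⟨rfl, h | h⟩ | ⟨rfl, h | h⟩⟩ := ih _ hj <;> rcases hab x with rfl | rfl <;>
        rw [h] at hw ⊢
      · rcases Nat.eq_zero_or_pos l with rfl | hl0
        · exact ⟨0, Or.inr ⟨rfl, Or.inl (by rw [refl_mul_rot_zpow]; simp)⟩⟩
        · exfalso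
          have := len_zpow_neg_mul_le x b (l - 1)
          rw [refl_mul_rot_zpow] at hw
          rw [show -(((l - 1 : ℕ) : ℤ) + 1) = -(l : ℤ) by omega] at this
          omega
      · exact ⟨l, Or.inr ⟨rfl, Or.inr (by rw [reflB_mul])⟩⟩
      · exact ⟨l, Or.inr ⟨rfl, Or.inl (by rw [refl_mul_rot_zpow, neg_neg])⟩⟩
      · rcases Nat.eq_zero_or_pos l with rfl | hl0
        · exact ⟨0, Or.inr ⟨rfl, Or.inr (by rw [reflB_mul]; simp)⟩⟩
        · exfalso
          have := len_zpow_mul_le a x (l - 1)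
          rw [reflB_mul] at hw
          rw [show (((l - 1 : ℕ) : ℤ)) = -(-(l : ℤ) + 1) by omega] at this
          omega
      · exfalso
        have := len_zpow_neg_le x b l
        rw [reflA_mul] at hw
        omega
      · exact ⟨l + 1, Or.inl ⟨by ring, Or.inr (by rw [reflB_mul']; push_cast; rfl)⟩⟩
      · exact ⟨l + 1, Or.inl ⟨by ring, Or.inl (by rw [reflA_mul, neg_neg]; push_cast; rfl)⟩⟩
      · exfalso
        have := len_zpow_le a x l
        rw [reflB_mul', show -(-((l : ℤ) + 1) + 1) = (l : ℤ) by ring] at hw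
        omega

theorem exists_rot {a b : P.S} (hab : ∀ x : P.S, x = a ∨ x = b) (w : W P) :
    ∃ k : ℤ, w = rot a b ^ k ∨ w = rot a b ^ k * refl P a := by
  obtain ⟨l, ⟨-, h | h⟩ | ⟨-, h | h⟩⟩ := normal_form hab _ w rfl
  exacts [⟨_, Or.inl h⟩, ⟨_, Or.inl h⟩, ⟨_, Or.inr h⟩, ⟨_, Or.inr h⟩]

theorem zpow_ne_zpow_mul (a b : P.S) (k l : ℤ) :
    rot a b ^ k ≠ rot a b ^ l * refl P a := by
  intro h
  have hpar : ∀ i : ℕ, len P (rot a b ^ (i : ℤ)) % 2 = 0 := by
    intro i
    induction i with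
    | zero => simp [len_one]
    | succ i ih =>
      rw [Nat.cast_succ, add_comm, zpow_one_add, rot, mul_assoc]
      have h1 := len_refl_mul P a (refl P b * rot a b ^ (i : ℤ))
      have h2 := len_refl_mul P b (rot a b ^ (i : ℤ))
      rw [rot] at ih h2 h1
      omega
  have hpar' : ∀ m : ℤ, len P (rot a b ^ m) % 2 = 0 := by
    intro m
    obtain ⟨i, rfl | rfl⟩ := Int.eq_nat_or_neg m
    · exact hpar i
    · rw [zpow_neg, len_inv]; exact hpar i
  have h3 := len_mul_refl P a (rot a b ^ l)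
  have h4 := hpar' k
  have h5 := hpar' l
  rw [h] at h4
  omega

section order

variable [Finite G]

/-- The order of the rotation. -/
noncomputable def ord (a b : P.S) : ℕ := orderOf (rot a b)

theorem ord_pos (a b : P.S) : 0 < ord a b := orderOf_pos _

theorem two_le_ord {a b : P.S} (hne : a ≠ b) : 2 ≤ ord a b := by
  have h1 := ord_pos a b
  by_contra hlt
  have h2 : ord a b = 1 := by omega
  rw [ord, orderOf_eq_one_iff, rot, mul_eq_one_iff_eq_inv, refl_inv] at h2
  exact hne (refl_injective P h2)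

theorem dvd_of_zpow_eq {a b : P.S} {k l : ℤ} (h : rot a b ^ k = rot a b ^ l) :
    (ord a b : ℤ) ∣ k - l := by
  rw [ord, orderOf_dvd_iff_zpow_eq_one, zpow_sub, h, mul_inv_cancel]

theorem zpow_eq_of_dvd {a b : P.S} {k l : ℤ} (h : (ord a b : ℤ) ∣ k - l) :
    rot a b ^ k = rot a b ^ l := by
  rw [ord, orderOf_dvd_iff_zpow_eq_one, zpow_sub, mul_inv_eq_one] at h
  exact h

theorem not_dvd_of_lt {n : ℕ} {k : ℤ} (h1 : k ≠ 0) (h2 : -(n : ℤ) < k) (h3 : k < n) :
    ¬ (n : ℤ) ∣ k := fun h => h1 (Int.eq_zero_of_abs_lt_dvd h (abs_lt.mpr ⟨h2, h3⟩))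

variable {a b : P.S} (hab : ∀ x : P.S, x = a ∨ x = b)
include hab

theorem len_zpow {i : ℕ} (hi : 2 * i ≤ ord a b) : len P (rot a b ^ (i : ℤ)) = 2 * i := by
  refine le_antisymm (len_zpow_le a b i) ?_
  by_contra hlt
  push Not at hlt
  obtain ⟨l, ⟨hl, h | h⟩ | ⟨-, h | h⟩⟩ := normal_form hab _ (rot a b ^ (i : ℤ)) rfl
  · exact not_dvd_of_lt (by omega) (by omega) (by omega) (dvd_of_zpow_eq h)
  · exact not_dvd_of_lt (by omega) (by omega) (by omega) (dvd_of_zpow_eq h)
  · exact zpow_ne_zpow_mul a b _ _ h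
  · exact zpow_ne_zpow_mul a b _ _ h

theorem len_zpow_neg {i : ℕ} (hi : 2 * i ≤ ord a b) :
    len P (rot a b ^ (-(i : ℤ))) = 2 * i := by
  rw [zpow_neg, len_inv, len_zpow hab hi]

theorem len_zpow_mul {i : ℕ} (hi : 2 * i + 1 ≤ ord a b) :
    len P (rot a b ^ (i : ℤ) * refl P a) = 2 * i + 1 := by
  refine le_antisymm (len_zpow_mul_le a b i) ?_
  by_contra hlt
  push Not at hlt
  obtain ⟨l, ⟨-, h | h⟩ | ⟨hl, h | h⟩⟩ :=
    normal_form hab _ (rot a b ^ (i : ℤ) * refl P a) rfl
  · exact zpow_ne_zpow_mul a b _ _ h.symm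
  · exact zpow_ne_zpow_mul a b _ _ h.symm
  · exact not_dvd_of_lt (by omega) (by omega) (by omega) (dvd_of_zpow_eq (mul_right_cancel h))
  · exact not_dvd_of_lt (by omega) (by omega) (by omega) (dvd_of_zpow_eq (mul_right_cancel h))

theorem len_zpow_neg_mul {i : ℕ} (hi : 2 * i + 1 ≤ ord a b) :
    len P (rot a b ^ (-((i : ℤ) + 1)) * refl P a) = 2 * i + 1 := by
  refine le_antisymm (len_zpow_neg_mul_le a b i) ?_
  by_contra hlt
  push Not at hlt
  obtain ⟨l, ⟨-, h | h⟩ | ⟨hl, h | h⟩⟩ :=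
    normal_form hab _ (rot a b ^ (-((i : ℤ) + 1)) * refl P a) rfl
  · exact zpow_ne_zpow_mul a b _ _ h.symm
  · exact zpow_ne_zpow_mul a b _ _ h.symm
  · exact not_dvd_of_lt (by omega) (by omega) (by omega) (dvd_of_zpow_eq (mul_right_cancel h))
  · exact not_dvd_of_lt (by omega) (by omega) (by omega) (dvd_of_zpow_eq (mul_right_cancel h))

theorem card_W : Nat.card (W P) = 2 * ord a b := by
  have hpos := ord_pos a b
  let f : Fin (ord a b) × Bool → W P := fun p =>
    bif p.2 then rot a b ^ ((p.1 : ℕ) : ℤ) * refl P a else rot a b ^ ((p.1 : ℕ) : ℤ)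
  have hf : Function.Bijective f := by
    have hinj : ∀ k l : Fin (ord a b), rot a b ^ ((k : ℕ) : ℤ) = rot a b ^ ((l : ℕ) : ℤ) → k = l := by
      intro k l h
      by_contra hne
      have h1 : (k : ℕ) ≠ (l : ℕ) := fun e => hne (Fin.ext e)
      exact not_dvd_of_lt (by omega) (by omega) (by omega) (dvd_of_zpow_eq h)
    refine ⟨?_, fun w => ?_⟩
    · rintro ⟨k, _ | _⟩ ⟨l, _ | _⟩ h <;> simp only [f, cond_false, cond_true] at h
      · rw [hinj k l h]
      · exact absurd h (zpow_ne_zpow_mul a b _ _)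
      · exact absurd h.symm (zpow_ne_zpow_mul a b _ _)
      · rw [hinj k l (mul_right_cancel h)]
    · obtain ⟨k, h⟩ := exists_rot hab w
      have hn : (0 : ℤ) < (ord a b : ℤ) := by exact_mod_cast hpos
      have h1 := Int.emod_nonneg k hn.ne'
      have h2 := Int.emod_lt_of_pos k hn
      have he : rot a b ^ (((k % (ord a b : ℤ)).toNat : ℕ) : ℤ) = rot a b ^ k := by
        rw [Int.toNat_of_nonneg h1, ord, zpow_mod_orderOf]
      rcases h with rfl | rfl
      · exact ⟨(⟨(k % (ord a b : ℤ)).toNat, by omega⟩, false), he⟩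
      · exact ⟨(⟨(k % (ord a b : ℤ)).toNat, by omega⟩, true), congrArg (· * refl P a) he⟩
  rw [← Nat.card_eq_of_bijective f hf, Nat.card_prod, Nat.card_fin, Nat.card_eq_fintype_card,
    Fintype.card_bool, mul_comm]

end order

end Cfsg.Agent.Lib.FeitHigman
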