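import Cfsg.Agent.Lib.BNPair.Parabolic
import Cfsg.Agent.Lib.FeitHigman.Dihedral

/-!
The adjacency operators of the chamber system of a finite Tits system and the averaging lemma.
-/

set_option autoImplicit false
set_option linter.unusedSectionVars false

namespace Cfsg.Agent.Lib.FeitHigman

open Cfsg.Agent.Lib.BNPair

variable {G : Type*} [Group G] (P : Cfsg.BNPair G)

/-- The chambers. -/
abbrev Ch : Type _ := G ⧸ P.B

/-- The Weyl distance of two chambers. -/
noncomputable def dist (y z : Ch P) : W P :=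
  Classical.choose (exists_mem_cell P (y.out⁻¹ * z.out))

variable {P}

theorem dist_eq_iff {g h : G} {w : W P} :
    dist P (QuotientGroup.mk g) (QuotientGroup.mk h) = w ↔ g⁻¹ * h ∈ cell P w := by
  have hspec := Classical.choose_spec
    (exists_mem_cell P ((QuotientGroup.mk g : Ch P).out⁻¹ * (QuotientGroup.mk h : Ch P).out))
  have hmem : g⁻¹ * h ∈ cell P (dist P (QuotientGroup.mk g) (QuotientGroup.mk h)) := by
    obtain ⟨b, hb⟩ := QuotientGroup.mk_out_eq_mul P.B g
    obtain ⟨c, hc⟩ := QuotientGroup.mk_out_eq_mul P.B h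
    have h1 := mul_mem_cell P b.2 hspec (inv_mem c.2)
    have e : (b : G) * ((QuotientGroup.mk g : Ch P).out⁻¹ * (QuotientGroup.mk h : Ch P).out) *
        (c : G)⁻¹ = g⁻¹ * h := by rw [hb, hc]; group
    rw [e] at h1
    exact h1
  exact ⟨fun e => e ▸ hmem, fun h' => eq_of_mem_cell P hmem h'⟩

theorem dist_symm (y z : Ch P) : dist P z y = (dist P y z)⁻¹ := by
  obtain ⟨g, rfl⟩ := QuotientGroup.mk_surjective y
  obtain ⟨h, rfl⟩ := QuotientGroup.mk_surjective z
  rw [dist_eq_iff]
  have := inv_mem_cell P ((dist_eq_iff (P := P) (g := g) (h := h)).mp rfl)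
  rwa [mul_inv_rev, inv_inv] at this

theorem dist_self (y : Ch P) : dist P y y = 1 := by
  obtain ⟨g, rfl⟩ := QuotientGroup.mk_surjective y
  rw [dist_eq_iff, inv_mul_cancel, cell_one]
  exact one_mem _

theorem eq_of_dist_eq_one {y z : Ch P} (h : dist P y z = 1) : y = z := by
  obtain ⟨g, rfl⟩ := QuotientGroup.mk_surjective y
  obtain ⟨g', rfl⟩ := QuotientGroup.mk_surjective z
  rw [dist_eq_iff, cell_one] at h
  exact QuotientGroup.eq.mpr h

theorem dist_smul (g : G) (y z : Ch P) : dist P (g • y) (g • z) = dist P y z := by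
  obtain ⟨a, rfl⟩ := QuotientGroup.mk_surjective y
  obtain ⟨b, rfl⟩ := QuotientGroup.mk_surjective z
  rw [MulAction.Quotient.smul_mk, MulAction.Quotient.smul_mk, dist_eq_iff, smul_eq_mul, smul_eq_mul,
    show (g * a)⁻¹ * (g * b) = a⁻¹ * b by group]
  exact (dist_eq_iff).mp rfl

theorem exists_dist_eq (w : W P) : ∃ z : Ch P, dist P (QuotientGroup.mk 1) z = w :=
  ⟨QuotientGroup.mk ((Quotient.out w : P.N) : G), by
    rw [dist_eq_iff, inv_one, one_mul]; exact out_mem_cell P w⟩

/-- Pairs of chambers at the same distance are conjugate under `G`. -/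
theorem exists_smul_of_dist_eq {p z p' z' : Ch P} (h : dist P p z = dist P p' z') :
    ∃ g : G, g • p = p' ∧ g • z = z' := by
  obtain ⟨a, rfl⟩ := QuotientGroup.mk_surjective p
  obtain ⟨b, rfl⟩ := QuotientGroup.mk_surjective z
  obtain ⟨a', rfl⟩ := QuotientGroup.mk_surjective p'
  obtain ⟨b', rfl⟩ := QuotientGroup.mk_surjective z'
  have h1 := (dist_eq_iff (P := P) (g := a) (h := b)).mp rfl
  have h2 := (dist_eq_iff (P := P) (g := a') (h := b')).mp h.symm
  obtain ⟨n, hn⟩ := QuotientGroup.mk_surjective (dist P (QuotientGroup.mk a) (QuotientGroup.mk b))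
  rw [← hn, cell_toW] at h1 h2
  obtain ⟨x, hx, y, hy, e⟩ := (mem_dc P).mp h1
  obtain ⟨x', hx', y', hy', e'⟩ := (mem_dc P).mp h2
  refine ⟨a' * x' * x⁻¹ * a⁻¹, ?_, ?_⟩ <;> rw [MulAction.Quotient.smul_mk, smul_eq_mul, QuotientGroup.eq]
  · have : (a' * x' * x⁻¹ * a⁻¹ * a)⁻¹ * a' = x * x'⁻¹ := by group
    rw [this]; exact mul_mem hx (inv_mem hx')
  · have : (a' * x' * x⁻¹ * a⁻¹ * b)⁻¹ * b' = y⁻¹ * y' := by
      calc (a' * x' * x⁻¹ * a⁻¹ * b)⁻¹ * b' = (a⁻¹ * b)⁻¹ * x * x'⁻¹ * (a'⁻¹ * b') := by group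
        _ = y⁻¹ * y' := by rw [e, e']; group
    rw [this]; exact mul_mem (inv_mem hy) hy'

variable [Finite G]

instance chFinite : Finite (Ch P) := Quotient.finite _

variable [Fintype (Ch P)]

open scoped Classical in
/-- The chambers adjacent to `y` along `x`. -/
noncomputable def nb (x : P.S) (y : Ch P) : Finset (Ch P) :=
  Finset.univ.filter fun z => dist P y z = refl P x

theorem mem_nb {x : P.S} {y z : Ch P} : z ∈ nb x y ↔ dist P y z = refl P x := by
  classical
  simp [nb]

/-- The number of chambers adjacent along `x` to a given one. -/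
noncomputable def par (x : P.S) : ℕ := (nb x (QuotientGroup.mk 1 : Ch P)).card

theorem card_nb (x : P.S) (y : Ch P) : (nb x y).card = par x := by
  obtain ⟨g, rfl⟩ := QuotientGroup.mk_surjective y
  have he : (QuotientGroup.mk g : Ch P) = g • (QuotientGroup.mk 1 : Ch P) := by
    rw [MulAction.Quotient.smul_mk, smul_eq_mul, mul_one]
  rw [par, he]
  symm
  refine Finset.card_equiv (MulAction.toPerm g) fun z => ?_
  rw [mem_nb, mem_nb, MulAction.toPerm_apply, dist_smul]

theorem two_le_par (x : P.S) : 2 ≤ par x := by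
  obtain ⟨c, hc, hcx⟩ := exists_conj_notMem P x
  have hx : (x : G) ∈ cell P (refl P x) := cell_refl P x ▸ mem_dc_self P _
  have h1 : (QuotientGroup.mk (x : G) : Ch P) ∈ nb x (QuotientGroup.mk 1) := by
    rw [mem_nb, dist_eq_iff, inv_one, one_mul]; exact hx
  have h2 : (QuotientGroup.mk (c * (x : G)) : Ch P) ∈ nb x (QuotientGroup.mk 1) := by
    rw [mem_nb, dist_eq_iff, inv_one, one_mul]
    simpa using mul_mem_cell P hc hx (one_mem _)
  have hne : (QuotientGroup.mk (x : G) : Ch P) ≠ QuotientGroup.mk (c * (x : G)) := by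
    intro e
    rw [QuotientGroup.eq] at e
    have := mul_mem (P.sq_mem x x.2) e
    rw [show (x : G) * x * ((x : G)⁻¹ * (c * x)) = x * c * x by group] at this
    exact hcx this
  exact Finset.one_lt_card.mpr ⟨_, h1, _, h2, hne⟩

theorem dist_longer {x : P.S} {p y z : Ch P} (h : len P (dist P p y) < len P (dist P p y * refl P x))
    (hz : z ∈ nb x y) : dist P p z = dist P p y * refl P x := by
  rw [mem_nb] at hz
  obtain ⟨a, rfl⟩ := QuotientGroup.mk_surjective p
  obtain ⟨g, rfl⟩ := QuotientGroup.mk_surjective y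
  obtain ⟨c, rfl⟩ := QuotientGroup.mk_surjective z
  rw [dist_eq_iff] at hz ⊢
  have h1 := (dist_eq_iff (P := P) (g := a) (h := g)).mp rfl
  set w := dist P (QuotientGroup.mk a) (QuotientGroup.mk g) with hw
  have h2 := inv_mem_cell P hz
  rw [refl_inv] at h2
  have hlen : len P w⁻¹ ≤ len P (refl P x * w⁻¹) := by
    rw [len_inv, ← len_inv P (refl P x * w⁻¹), mul_inv_rev, inv_inv, refl_inv]
    exact h.le
  have h3 := mul_cell_mem_of_le P _ rfl hlen h2 (inv_mem_cell P h1)
  have h4 := inv_mem_cell P h3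
  simp only [mul_inv_rev, inv_inv, refl_inv] at h4
  rw [show (a⁻¹ * g) * (g⁻¹ * c) = a⁻¹ * c by group] at h4
  exact h4

theorem dist_step {x : P.S} (p : Ch P) {y z : Ch P} (hz : z ∈ nb x y) :
    dist P p z = dist P p y * refl P x ∨ dist P p z = dist P p y := by
  rw [mem_nb] at hz
  obtain ⟨a, rfl⟩ := QuotientGroup.mk_surjective p
  obtain ⟨g, rfl⟩ := QuotientGroup.mk_surjective y
  obtain ⟨c, rfl⟩ := QuotientGroup.mk_surjective z
  rw [dist_eq_iff] at hz
  have h1 := (dist_eq_iff (P := P) (g := a) (h := g)).mp rfl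
  have h2 := mul_cell_mem' P h1 hz
  rw [show (a⁻¹ * g) * (g⁻¹ * c) = a⁻¹ * c by group] at h2
  rcases h2 with h2 | h2
  · exact Or.inl ((dist_eq_iff).mpr h2)
  · exact Or.inr ((dist_eq_iff).mpr h2)

theorem dist_nb_nb {x : P.S} {y z z' : Ch P} (hz : z ∈ nb x y) (hz' : z' ∈ nb x y) (hne : z ≠ z') :
    z' ∈ nb x z := by
  have hyz : y ∈ nb x z := by
    rw [mem_nb, dist_symm, mem_nb.mp hz, refl_inv]
  rcases dist_step z (y := y) hz' with h | h
  · rw [mem_nb.mp hyz, refl_sq] at h
    exact absurd (eq_of_dist_eq_one h) hne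
  · rw [mem_nb, h, mem_nb.mp hyz]

theorem exists_unique_shorter {x : P.S} {p y : Ch P}
    (h : len P (dist P p y * refl P x) < len P (dist P p y)) :
    ∃! z, z ∈ nb x y ∧ dist P p z = dist P p y * refl P x := by
  set w := dist P p y with hw
  refine existsUnique_of_exists_of_unique ?_ ?_
  · obtain ⟨p₀, hp⟩ := exists_dist_eq (w * refl P x)
    obtain ⟨z₀, hz₀⟩ := QuotientGroup.mk_surjective p₀
    let z₁ : Ch P := (z₀ * (x : G) : G)
    have hz₁ : z₁ ∈ nb x p₀ := by
      rw [mem_nb, ← hz₀, dist_eq_iff, inv_mul_cancel_left]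
      exact cell_refl P x ▸ mem_dc_self P _
    have hd : dist P (QuotientGroup.mk 1) z₁ = w := by
      have := dist_longer (p := QuotientGroup.mk 1) (y := p₀) (z := z₁) (x := x)
        (by rw [hp, mul_refl_cancel]; exact h) hz₁
      rwa [hp, mul_refl_cancel] at this
    obtain ⟨g, hg1, hg2⟩ := exists_smul_of_dist_eq (hd.trans hw)
    refine ⟨g • p₀, ?_, ?_⟩
    · rw [mem_nb, ← hg2, dist_smul, dist_symm, mem_nb.mp hz₁, refl_inv]
    · rw [← hg1, dist_smul, hp]
  · rintro z z' ⟨hz, hzd⟩ ⟨hz', hzd'⟩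
    by_contra hne
    have hlong : len P (dist P p z) < len P (dist P p z * refl P x) := by
      rw [hzd, mul_refl_cancel]; exact h
    have := dist_longer hlong (dist_nb_nb hz hz' hne)
    rw [hzd, mul_refl_cancel, hzd'] at this
    rw [this] at h
    omega

open scoped Classical in
/-- The operator on functions of the Weyl distance attached to a reflection. -/
noncomputable def T (x : P.S) (f : W P → ℝ) (w : W P) : ℝ :=
  if len P w < len P (w * refl P x) then (par x : ℝ) * f (w * refl P x)
  else f (w * refl P x) + ((par x : ℝ) - 1) * f w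

theorem T_of_lt {x : P.S} {f : W P → ℝ} {w : W P} (h : len P w < len P (w * refl P x)) :
    T x f w = (par x : ℝ) * f (w * refl P x) := by
  classical
  rw [T, if_pos h]

theorem T_of_gt {x : P.S} {f : W P → ℝ} {w : W P} (h : len P (w * refl P x) < len P w) :
    T x f w = f (w * refl P x) + ((par x : ℝ) - 1) * f w := by
  classical
  rw [T, if_neg (by omega)]

theorem sum_nb (x : P.S) (f : W P → ℝ) (p y : Ch P) :
    ∑ z ∈ nb x y, f (dist P p z) = T x f (dist P p y) := by
  classical
  rcases len_mul_refl P x (dist P p y) with h | h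
  · rw [T_of_lt (by omega), Finset.sum_congr rfl (fun z hz => by rw [dist_longer (by omega) hz]),
      Finset.sum_const, card_nb, nsmul_eq_mul]
  · rw [T_of_gt (by omega)]
    obtain ⟨z₀, ⟨hz₀, hd₀⟩, huniq⟩ := exists_unique_shorter (x := x) (p := p) (y := y) (by omega)
    rw [← Finset.add_sum_erase _ _ hz₀, hd₀, Finset.sum_congr rfl (g := fun _ => f (dist P p y)) (fun z hz => ?_),
      Finset.sum_const, Finset.card_erase_of_mem hz₀, card_nb, nsmul_eq_mul, Nat.cast_sub]
    · simp
    · have := two_le_par (P := P) x; omega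
    · obtain ⟨hne, hz'⟩ := Finset.mem_erase.mp hz
      exact congrArg f ((dist_step p hz').resolve_left fun e => hne (huniq z ⟨hz', e⟩))

/-- Convolution commutes with the operators. -/
theorem T_conv {f F : W P → ℝ} {u : W P → ℝ} (x : P.S)
    (h : ∀ p z : Ch P, F (dist P p z) = ∑ y, u (dist P p y) * f (dist P y z)) (p z : Ch P) :
    T x F (dist P p z) = ∑ y, u (dist P p y) * T x f (dist P y z) := by
  rw [← sum_nb]
  simp only [h]
  rw [Finset.sum_comm]
  refine Finset.sum_congr rfl fun y _ => ?_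
  rw [← Finset.mul_sum, sum_nb]

open scoped Classical in
/-- The number of chambers at a given distance from a base chamber. -/
noncomputable def size (w : W P) : ℝ :=
  ∑ z : Ch P, if dist P (QuotientGroup.mk 1) z = w then 1 else 0

theorem size_one : size (1 : W P) = 1 := by
  classical
  rw [size, Finset.sum_eq_single (QuotientGroup.mk 1)]
  · simp [dist_self]
  · intro z _ hz
    rw [if_neg]
    exact fun e => hz (eq_of_dist_eq_one e).symm
  · simp

theorem size_mul {x : P.S} {w : W P} (h : len P w < len P (w * refl P x)) :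
    size (w * refl P x) = (par x : ℝ) * size w := by
  classical
  set o : Ch P := QuotientGroup.mk 1
  have key : ∀ (v v' : W P), ∑ y : Ch P, (if dist P o y = v then
        T x (fun u => if u = v' then 1 else 0) v else 0) =
      ∑ y : Ch P, ∑ z ∈ nb x y, (if dist P o y = v then
        (if dist P o z = v' then (1 : ℝ) else 0) else 0) := by
    intro v v'
    refine Finset.sum_congr rfl fun y _ => ?_
    split_ifs with hy
    · rw [sum_nb x (fun u => if u = v' then (1 : ℝ) else 0), hy]
    · simp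
  have hsym : ∑ y : Ch P, ∑ z ∈ nb x y, (if dist P o y = w then
        (if dist P o z = w * refl P x then (1 : ℝ) else 0) else 0) =
      ∑ y : Ch P, ∑ z ∈ nb x y, (if dist P o y = w * refl P x then
        (if dist P o z = w then (1 : ℝ) else 0) else 0) := by
    simp only [nb, Finset.sum_filter]
    rw [Finset.sum_comm]
    refine Finset.sum_congr rfl fun y _ => Finset.sum_congr rfl fun z _ => ?_
    have hs : dist P z y = refl P x ↔ dist P y z = refl P x := by
      rw [dist_symm y z, inv_eq_iff_eq_inv, refl_inv]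
    simp only [hs]
    split_ifs <;> first | rfl | simp_all
  rw [← key, ← key, T_of_lt h, T_of_gt (by rw [mul_refl_cancel]; exact h), mul_refl_cancel] at hsym
  have hne : w * refl P x ≠ w := fun e => by rw [e] at h; omega
  simp only [if_true, if_neg hne, mul_zero, add_zero, mul_one] at hsym
  unfold size
  rw [Finset.mul_sum, ← hsym]
  refine Finset.sum_congr rfl fun y _ => ?_
  split_ifs <;> simp

/-- The trace of an idempotent multiple: the number of chambers is an integer multiple of the sum. -/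
theorem exists_nat_eq {u : W P → ℝ} (hu1 : u 1 = 1) (hinv : ∀ w, u w⁻¹ = u w) {c : ℝ} (hc : c ≠ 0)
    (hconv : ∀ p z : Ch P, c * u (dist P p z) = ∑ y, u (dist P p y) * u (dist P y z)) :
    ∃ k : ℕ, (Fintype.card (Ch P) : ℝ) = c * k := by
  classical
  let M : Matrix (Ch P) (Ch P) ℝ := Matrix.of fun p z => c⁻¹ * u (dist P p z)
  have hM : IsIdempotentElem M := by
    ext p z
    simp only [Matrix.mul_apply, M, Matrix.of_apply]
    calc ∑ y, c⁻¹ * u (dist P p y) * (c⁻¹ * u (dist P y z))
        = c⁻¹ * c⁻¹ * ∑ y, u (dist P p y) * u (dist P y z) := by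
          rw [Finset.mul_sum]; exact Finset.sum_congr rfl fun y _ => by ring
      _ = c⁻¹ * u (dist P p z) := by rw [← hconv]; field_simp
  let f := Matrix.toLin' M
  have hf : IsIdempotentElem f := by
    show f * f = f
    rw [Module.End.mul_eq_comp, ← Matrix.toLin'_mul, hM]
  have htr : LinearMap.trace ℝ _ f = (Module.finrank ℝ (LinearMap.range f) : ℝ) :=
    LinearMap.IsProj.trace (LinearMap.IsIdempotentElem.isProj_range f hf)
  rw [show LinearMap.trace ℝ _ f = M.trace from Matrix.trace_toLin'_eq M] at htr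
  refine ⟨Module.finrank ℝ (LinearMap.range f), ?_⟩
  have ht : M.trace = c⁻¹ * (Fintype.card (Ch P) : ℝ) := by
    simp [Matrix.trace, M, dist_self, hu1, mul_comm]
  rw [← htr, ht]
  field_simp

end Cfsg.Agent.Lib.FeitHigman
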