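import Cfsg.Agent.Lib.FeitHigman.Kernel

/-!
Eigenfunctions of the collinearity operator of the generalised polygon of a Tits system of rank two.
-/

set_option autoImplicit false
set_option linter.unusedSectionVars false

namespace Cfsg.Agent.Lib.FeitHigman

open Cfsg.Agent.Lib.BNPair

variable {G : Type*} [Group G] [Finite G] {P : Cfsg.BNPair G} [Fintype (Ch P)] {a b : P.S}

/-- Functions constant on the double cosets of `⟨a⟩` in the Weyl group. -/
structure IsClassFn (a : P.S) (f : W P → ℝ) : Prop where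
  inv : ∀ w, f w⁻¹ = f w
  right : ∀ w, f (w * refl P a) = f w

theorem IsClassFn.neg {f : W P → ℝ} (hf : IsClassFn a f) (k : ℤ) :
    f (rot a b ^ (-k)) = f (rot a b ^ k) := by
  rw [zpow_neg, hf.inv]

/-- The collinearity operator on functions. -/
noncomputable def opC (a b : P.S) (f : W P → ℝ) (w : W P) : ℝ := T a (T b f) w + T b f w

theorem opC_right (f : W P → ℝ) (w : W P) : opC a b f (w * refl P a) = opC a b f w := by
  rcases len_mul_refl P a w with h | h
  · rw [opC, opC, T_of_gt (x := a) (by rw [mul_refl_cancel]; omega), T_of_lt (x := a) (by omega), mul_refl_cancel]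
    ring
  · rw [opC, opC, T_of_lt (x := a) (by rw [mul_refl_cancel]; omega), T_of_gt (x := a) (by omega), mul_refl_cancel]
    ring

theorem opC_of_short (f : W P → ℝ) {w : W P} (h : len P w < len P (w * refl P a)) :
    opC a b f w = (par a : ℝ) * T b f (w * refl P a) + T b f w := by
  rw [opC, T_of_lt h]

variable (hab : ∀ x : P.S, x = a ∨ x = b) (hne : a ≠ b)
include hab hne

theorem opC_one {f : W P → ℝ} (hf : IsClassFn a f) :
    opC a b f 1 = ((par a : ℝ) + 1) * (par b : ℝ) * f (rot a b ^ (1 : ℤ)) := by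
  have hn := two_le_ord hne
  have hb : f (refl P b) = f (rot a b ^ (1 : ℤ)) := by
    rw [show refl P b = rot a b ^ (-(1 : ℤ)) * refl P a by
      rw [← mul_one (refl P b), ← zpow_zero (rot a b), reflB_mul]; simp, hf.right, hf.neg]
  rw [opC_of_short f (by rw [one_mul, len_one, len_refl]; omega), one_mul,
    T_of_lt (w := (1 : W P)) (by rw [one_mul, len_one, len_refl]; omega), one_mul, hb, T_of_lt]
  · rw [show refl P a * refl P b = rot a b ^ (1 : ℤ) from (zpow_one _).symm]
    ring
  · rw [len_refl, show refl P a * refl P b = rot a b ^ ((1 : ℕ) : ℤ) by rw [Nat.cast_one, zpow_one],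
      len_zpow hab (by omega)]
    omega

theorem opC_pos {f : W P → ℝ} (hf : IsClassFn a f) {j : ℕ} (hj : 2 * (j + 1) < ord a b) :
    opC a b f (rot a b ^ ((j + 1 : ℕ) : ℤ)) = f (rot a b ^ (j : ℤ)) +
      ((par b : ℝ) - 1) * f (rot a b ^ ((j + 1 : ℕ) : ℤ)) +
      (par a : ℝ) * (par b : ℝ) * f (rot a b ^ ((j + 2 : ℕ) : ℤ)) := by
  have hl := len_zpow hab (i := j + 1) (by omega)
  have hla := len_zpow_mul hab (i := j + 1) (by omega)
  rw [opC_of_short f (by rw [hl, hla]; omega)]
  have hg : T b f (rot a b ^ ((j + 1 : ℕ) : ℤ)) =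
      f (rot a b ^ (j : ℤ)) + ((par b : ℝ) - 1) * f (rot a b ^ ((j + 1 : ℕ) : ℤ)) := by
    have e : rot a b ^ ((j + 1 : ℕ) : ℤ) * refl P b = rot a b ^ (j : ℤ) * refl P a := by
      rw [rot_zpow_mul_reflB]; push_cast; ring_nf
    rw [T_of_gt, e, hf.right]
    rw [e, hl]
    have := len_zpow_mul_le a b j
    omega
  have hga : T b f (rot a b ^ ((j + 1 : ℕ) : ℤ) * refl P a) =
      (par b : ℝ) * f (rot a b ^ ((j + 2 : ℕ) : ℤ)) := by
    have e : rot a b ^ ((j + 1 : ℕ) : ℤ) * refl P a * refl P b = rot a b ^ ((j + 2 : ℕ) : ℤ) := by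
      rw [rot_zpow_reflA_mul_reflB]; push_cast; ring_nf
    by_cases hj2 : 2 * (j + 2) ≤ ord a b
    · rw [T_of_lt, e]
      rw [e, hla, len_zpow hab hj2]
      omega
    · have e2 : rot a b ^ ((j + 2 : ℕ) : ℤ) = rot a b ^ (-((j + 1 : ℕ) : ℤ)) :=
        zpow_eq_of_dvd ⟨1, by omega⟩
      rw [T_of_gt, e, hf.right, e2, hf.neg]
      · ring
      · rw [e, e2, hla, len_zpow_neg hab (by omega)]
        omega
  rw [hg, hga]
  ring

theorem opC_neg {f : W P → ℝ} (hf : IsClassFn a f) {j : ℕ} (hj : 2 * (j + 1) ≤ ord a b) :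
    opC a b f (rot a b ^ (-((j + 1 : ℕ) : ℤ)) * refl P a) =
      if 2 * (j + 1) < ord a b then f (rot a b ^ (j : ℤ)) +
        ((par b : ℝ) - 1) * f (rot a b ^ ((j + 1 : ℕ) : ℤ)) +
        (par a : ℝ) * (par b : ℝ) * f (rot a b ^ ((j + 2 : ℕ) : ℤ))
      else ((par a : ℝ) + 1) * (f (rot a b ^ (j : ℤ)) +
        ((par b : ℝ) - 1) * f (rot a b ^ ((j + 1 : ℕ) : ℤ))) := by
  have hl := len_zpow_neg hab (i := j + 1) (by omega)
  have hla : len P (rot a b ^ (-((j + 1 : ℕ) : ℤ)) * refl P a) = 2 * j + 1 := by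
    rw [Nat.cast_succ, len_zpow_neg_mul hab (by omega)]
  rw [opC_of_short f (by rw [mul_refl_cancel, hl, hla]; omega), mul_refl_cancel]
  have hg : T b f (rot a b ^ (-((j + 1 : ℕ) : ℤ)) * refl P a) =
      f (rot a b ^ (j : ℤ)) + ((par b : ℝ) - 1) * f (rot a b ^ ((j + 1 : ℕ) : ℤ)) := by
    have e : rot a b ^ (-((j + 1 : ℕ) : ℤ)) * refl P a * refl P b = rot a b ^ (-(j : ℤ)) := by
      rw [rot_zpow_reflA_mul_reflB]; push_cast; ring_nf
    rw [T_of_gt, e, hf.neg, hf.right, hf.neg]
    rw [e, hla]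
    have := len_zpow_neg_le a b j
    omega
  have e : rot a b ^ (-((j + 1 : ℕ) : ℤ)) * refl P b =
      rot a b ^ (-((j + 2 : ℕ) : ℤ)) * refl P a := by
    rw [rot_zpow_mul_reflB]; push_cast; ring_nf
  by_cases hj2 : 2 * (j + 1) < ord a b
  · rw [if_pos hj2]
    have hga : T b f (rot a b ^ (-((j + 1 : ℕ) : ℤ))) =
        (par b : ℝ) * f (rot a b ^ ((j + 2 : ℕ) : ℤ)) := by
      rw [T_of_lt, e, hf.right, hf.neg]
      rw [e, hl, show (-((j + 2 : ℕ) : ℤ)) = -(((j + 1 : ℕ) : ℤ) + 1) by push_cast; ring,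
        len_zpow_neg_mul hab (by omega)]
      omega
    rw [hg, hga]
    ring
  · rw [if_neg hj2]
    have e2 : rot a b ^ (-((j + 2 : ℕ) : ℤ)) = rot a b ^ (j : ℤ) := zpow_eq_of_dvd ⟨-1, by omega⟩
    have hga : T b f (rot a b ^ (-((j + 1 : ℕ) : ℤ))) =
        f (rot a b ^ (j : ℤ)) + ((par b : ℝ) - 1) * f (rot a b ^ ((j + 1 : ℕ) : ℤ)) := by
      rw [T_of_gt, e, e2, hf.right, hf.neg]
      rw [e, e2, hl]
      have := len_zpow_mul_le a b j
      omega
    rw [hg, hga]
    ring

omit hne in
theorem exists_class (w : W P) : ∃ i : ℕ, 2 * i ≤ ord a b ∧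
    (w = rot a b ^ (i : ℤ) ∨ w = rot a b ^ (-(i : ℤ)) ∨ w = rot a b ^ (i : ℤ) * refl P a ∨
      w = rot a b ^ (-(i : ℤ)) * refl P a) := by
  obtain ⟨k, hk⟩ := exists_rot hab w
  have hn : (0 : ℤ) < (ord a b : ℤ) := by exact_mod_cast ord_pos a b
  have h1 := Int.emod_nonneg k hn.ne'
  have h2 := Int.emod_lt_of_pos k hn
  by_cases hs : 2 * (k % (ord a b : ℤ)) ≤ (ord a b : ℤ)
  · refine ⟨(k % (ord a b : ℤ)).toNat, by omega, ?_⟩
    rw [Int.toNat_of_nonneg h1, ord, zpow_mod_orderOf]
    rcases hk with h | h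
    · exact Or.inl h
    · exact Or.inr (Or.inr (Or.inl h))
  · refine ⟨((ord a b : ℤ) - k % (ord a b : ℤ)).toNat, by omega, ?_⟩
    rw [Int.toNat_of_nonneg (by omega)]
    have e : rot a b ^ (-((ord a b : ℤ) - k % (ord a b : ℤ))) = rot a b ^ k := by
      rw [neg_sub]
      refine zpow_eq_of_dvd ⟨-(k / (ord a b : ℤ)) - 1, ?_⟩
      have := Int.mul_ediv_add_emod k (ord a b : ℤ)
      linarith
    rw [e]
    rcases hk with h | h
    · exact Or.inr (Or.inl h)
    · exact Or.inr (Or.inr (Or.inr h))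

omit hne in
theorem class_unique {w : W P} {i j : ℕ} (hi : 2 * i ≤ ord a b) (hj : 2 * j ≤ ord a b)
    (h : w = rot a b ^ (i : ℤ) ∨ w = rot a b ^ (-(i : ℤ)) ∨ w = rot a b ^ (i : ℤ) * refl P a ∨
      w = rot a b ^ (-(i : ℤ)) * refl P a)
    (h' : w = rot a b ^ (j : ℤ) ∨ w = rot a b ^ (-(j : ℤ)) ∨ w = rot a b ^ (j : ℤ) * refl P a ∨
      w = rot a b ^ (-(j : ℤ)) * refl P a) : i = j := by
  have hn := ord_pos a b
  by_contra hij
  rcases h with rfl | rfl | rfl | rfl <;> rcases h' with h' | h' | h' | h' <;>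
    first
    | exact zpow_ne_zpow_mul a b _ _ h'
    | exact zpow_ne_zpow_mul a b _ _ h'.symm
    | exact not_dvd_of_lt (by omega) (by omega) (by omega) (dvd_of_zpow_eq h')
    | exact not_dvd_of_lt (by omega) (by omega) (by omega) (dvd_of_zpow_eq (mul_right_cancel h'))

/-- The class number of an element of the Weyl group. -/
noncomputable def cls (hab : ∀ x : P.S, x = a ∨ x = b) (hne : a ≠ b) (w : W P) : ℕ :=
  Classical.choose (exists_class hab w)

theorem cls_spec (w : W P) : 2 * cls hab hne w ≤ ord a b ∧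
    (w = rot a b ^ (cls hab hne w : ℤ) ∨ w = rot a b ^ (-(cls hab hne w : ℤ)) ∨
      w = rot a b ^ (cls hab hne w : ℤ) * refl P a ∨
      w = rot a b ^ (-(cls hab hne w : ℤ)) * refl P a) :=
  Classical.choose_spec (exists_class hab w)

theorem cls_eq {w : W P} {i : ℕ} (hi : 2 * i ≤ ord a b)
    (h : w = rot a b ^ (i : ℤ) ∨ w = rot a b ^ (-(i : ℤ)) ∨ w = rot a b ^ (i : ℤ) * refl P a ∨
      w = rot a b ^ (-(i : ℤ)) * refl P a) : cls hab hne w = i :=
  class_unique hab (cls_spec hab hne w).1 hi (cls_spec hab hne w).2 h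

theorem cls_isClassFn (v : ℕ → ℝ) : IsClassFn a (fun w => v (cls hab hne w)) := by
  refine ⟨fun w => ?_, fun w => ?_⟩ <;> congr 1
  · obtain ⟨hi, h⟩ := cls_spec hab hne w
    refine cls_eq hab hne hi ?_
    set i := cls hab hne w
    rcases h with h | h | h | h <;> rw [h]
    · exact Or.inr (Or.inl (zpow_neg _ _).symm)
    · exact Or.inl (by rw [zpow_neg, inv_inv])
    · exact Or.inr (Or.inr (Or.inl (by
        rw [mul_inv_rev, refl_inv, ← zpow_neg, refl_mul_rot_zpow, neg_neg])))
    · exact Or.inr (Or.inr (Or.inr (by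
        rw [mul_inv_rev, refl_inv, ← zpow_neg, refl_mul_rot_zpow, neg_neg])))
  · obtain ⟨hi, h⟩ := cls_spec hab hne w
    refine cls_eq hab hne hi ?_
    set i := cls hab hne w
    rcases h with h | h | h | h <;> rw [h]
    · exact Or.inr (Or.inr (Or.inl rfl))
    · exact Or.inr (Or.inr (Or.inr rfl))
    · exact Or.inl (mul_refl_cancel P a _)
    · exact Or.inr (Or.inl (mul_refl_cancel P a _))

/-- The equations of an eigenfunction in terms of its class values. -/
structure IsEigen (n : ℕ) (s t lam : ℝ) (v : ℕ → ℝ) : Prop where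
  zero : v 0 = 1
  first : (s + 1) * t * v 1 = lam
  interior : ∀ j, 2 * (j + 1) < n → v j + (t - 1) * v (j + 1) + s * t * v (j + 2) = lam * v (j + 1)
  last : ∀ j, 2 * (j + 1) = n → (s + 1) * (v j + (t - 1) * v (j + 1)) = lam * v (j + 1)
  odd : ∀ j, 2 * j + 1 = n → v (j + 1) = v j

variable {lam : ℝ} {v : ℕ → ℝ}

theorem eigen_value (hv : IsEigen (ord a b) (par a : ℝ) (par b : ℝ) lam v) {i : ℕ}
    (hi : 2 * i ≤ ord a b + 1) : v (cls hab hne (rot a b ^ (i : ℤ))) = v i := by
  have hn := two_le_ord hne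
  by_cases h : 2 * i ≤ ord a b
  · rw [cls_eq hab hne h (Or.inl rfl)]
  · obtain ⟨j, rfl⟩ : ∃ j, i = j + 1 := ⟨i - 1, by omega⟩
    rw [cls_eq hab hne (i := j) (by omega) (Or.inr (Or.inl (zpow_eq_of_dvd ⟨1, by omega⟩))),
      hv.odd j (by omega)]

theorem opC_eq_smul (hv : IsEigen (ord a b) (par a : ℝ) (par b : ℝ) lam v) (w : W P) :
    opC a b (fun x => v (cls hab hne x)) w = lam * v (cls hab hne w) := by
  have hf := cls_isClassFn hab hne v
  have hn := two_le_ord hne
  obtain ⟨hi, h⟩ := cls_spec hab hne w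
  set i := cls hab hne w with hidef
  have hval := fun (k : ℕ) (hk : 2 * k ≤ ord a b + 1) => eigen_value hab hne hv hk
  have key : ∀ x, x = rot a b ^ (i : ℤ) ∨ x = rot a b ^ (-(i : ℤ)) * refl P a →
      opC a b (fun x => v (cls hab hne x)) x = lam * v i := by
    rcases Nat.eq_zero_or_pos i with h0 | h0
    · rw [h0]
      intro x hx
      have h1 : opC a b (fun x => v (cls hab hne x)) 1 = lam * v 0 := by
        rw [opC_one hab hne hf, hv.zero, mul_one]
        show _ * v (cls hab hne (rot a b ^ ((1 : ℕ) : ℤ))) = lam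
        rw [hval 1 (by omega)]
        exact hv.first
      rcases hx with rfl | rfl
      · rwa [Nat.cast_zero, zpow_zero]
      · rwa [Nat.cast_zero, neg_zero, zpow_zero, opC_right]
    · obtain ⟨j, hj⟩ : ∃ j, i = j + 1 := ⟨i - 1, by omega⟩
      rw [hj] at hi ⊢
      intro x hx
      rcases lt_or_eq_of_le hi with hlt | heq
      · rcases hx with rfl | rfl
        · rw [opC_pos hab hne hf hlt]
          show v (cls hab hne _) + _ * v (cls hab hne _) + _ * v (cls hab hne _) = _
          rw [hval j (by omega), hval (j + 1) (by omega), hval (j + 2) (by omega)]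
          exact hv.interior j hlt
        · rw [opC_neg hab hne hf hi, if_pos hlt]
          show v (cls hab hne _) + _ * v (cls hab hne _) + _ * v (cls hab hne _) = _
          rw [hval j (by omega), hval (j + 1) (by omega), hval (j + 2) (by omega)]
          exact hv.interior j hlt
      · have hx' : opC a b (fun x => v (cls hab hne x)) x =
            opC a b (fun x => v (cls hab hne x)) (rot a b ^ (-((j + 1 : ℕ) : ℤ)) * refl P a) := by
          rcases hx with rfl | rfl
          · rw [opC_right, zpow_eq_of_dvd (a := a) (b := b) (k := ((j + 1 : ℕ) : ℤ))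
              (l := -((j + 1 : ℕ) : ℤ)) ⟨1, by omega⟩]
          · rfl
        rw [hx', opC_neg hab hne hf hi, if_neg (by omega)]
        show _ * (v (cls hab hne _) + _ * v (cls hab hne _)) = _
        rw [hval j (by omega), hval (j + 1) (by omega)]
        exact hv.last j heq
  rcases h with h | h | h | h
  · exact key w (Or.inl h)
  · rw [← opC_right]; exact key _ (Or.inr (by rw [h]))
  · rw [← opC_right]; exact key _ (Or.inl (by rw [h, mul_refl_cancel]))
  · exact key w (Or.inr h)

/-- The key integrality: the number of chambers is an integer multiple of the sum of squares. -/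
theorem exists_card_eq (hv : IsEigen (ord a b) (par a : ℝ) (par b : ℝ) lam v) :
    ∃ k : ℕ, (Fintype.card (Ch P) : ℝ) =
      (∑ z : Ch P, v (cls hab hne (dist P (QuotientGroup.mk 1) z)) ^ 2) * k := by
  classical
  set o : Ch P := QuotientGroup.mk 1 with ho
  set u : W P → ℝ := fun x => v (cls hab hne x) with hu
  have huf : IsClassFn a u := cls_isClassFn hab hne v
  have hn := two_le_ord hne
  have hu1 : u 1 = 1 := by
    show v (cls hab hne 1) = 1
    rw [cls_eq hab hne (i := 0) (by omega) (Or.inl (by simp)), hv.zero]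
  choose rep hrep using fun w : W P => exists_dist_eq (P := P) w
  set F : W P → ℝ := fun w => ∑ y, u (dist P o y) * u (dist P y (rep w)) with hFdef
  have hF : ∀ p z : Ch P, F (dist P p z) = ∑ y, u (dist P p y) * u (dist P y z) := by
    intro p z
    obtain ⟨g, hg1, hg2⟩ := exists_smul_of_dist_eq (hrep (dist P p z))
    refine Fintype.sum_equiv (MulAction.toPerm g) _ _ fun y => ?_
    rw [MulAction.toPerm_apply]
    nth_rewrite 2 [← hg1]
    nth_rewrite 2 [← hg2]
    rw [dist_smul, dist_smul]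
  have hFinv : ∀ w, F w⁻¹ = F w := by
    intro w
    conv_lhs => rw [← hrep w, ← dist_symm]
    conv_rhs => rw [← hrep w]
    rw [hF, hF]
    refine Finset.sum_congr rfl fun y _ => ?_
    rw [dist_symm y (rep w), dist_symm (QuotientGroup.mk 1) y, huf.inv, huf.inv]
    ring
  have hT : ∀ w, T a u w = (par a : ℝ) * u w := by
    intro w
    rcases len_mul_refl P a w with h | h
    · rw [T_of_lt (by omega), huf.right]
    · rw [T_of_gt (by omega), huf.right]; ring
  have hTF : ∀ p z : Ch P, T a F (dist P p z) = (par a : ℝ) * F (dist P p z) := by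
    intro p z
    rw [T_conv a hF, hF, Finset.mul_sum]
    exact Finset.sum_congr rfl fun y _ => by rw [hT]; ring
  have hFright : ∀ w, F (w * refl P a) = F w := by
    intro w
    have h1 := hTF (QuotientGroup.mk 1) (rep w)
    rw [hrep] at h1
    have h2 : (0 : ℝ) < par a := by
      have := two_le_par (P := P) a
      exact_mod_cast (by omega : 0 < par a)
    rcases len_mul_refl P a w with h | h
    · rw [T_of_lt (by omega)] at h1
      exact mul_left_cancel₀ h2.ne' h1
    · rw [T_of_gt (by omega)] at h1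
      linarith
  have hFf : IsClassFn a F := ⟨hFinv, hFright⟩
  have hCF : ∀ w, opC a b F w = lam * F w := by
    intro w
    obtain ⟨z, hz⟩ := exists_dist_eq (P := P) w
    rw [← hz, opC, T_conv a (T_conv b hF), T_conv b hF, hF, Finset.mul_sum, ← Finset.sum_add_distrib]
    refine Finset.sum_congr rfl fun y _ => ?_
    have := opC_eq_smul hab hne hv (dist P y z)
    simp only [opC] at this
    linear_combination u (dist P (QuotientGroup.mk 1) y) * this
  set c := F 1 with hc
  have hval : ∀ i : ℕ, 2 * i ≤ ord a b + 1 → F (rot a b ^ (i : ℤ)) = c * v i := by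
    intro i
    induction i using Nat.strong_induction_on with
    | _ i ih =>
      intro hi
      have hs : (0 : ℝ) < par a := by
        have := two_le_par (P := P) a
        exact_mod_cast (by omega : 0 < par a)
      have ht : (0 : ℝ) < par b := by
        have := two_le_par (P := P) b
        exact_mod_cast (by omega : 0 < par b)
      match i, ih, hi with
      | 0, _, _ => simp [hv.zero, ← hc]
      | 1, _, _ =>
        have h := hCF 1
        rw [opC_one hab hne hFf] at h
        refine mul_left_cancel₀ (mul_ne_zero (add_pos hs one_pos).ne' ht.ne') ?_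
        rw [Nat.cast_one, h, ← hv.first, hc]
        ring
      | j + 2, ih, hi =>
        have h := hCF (rot a b ^ ((j + 1 : ℕ) : ℤ))
        rw [opC_pos hab hne hFf (by omega), ih (j + 1) (by omega) (by omega),
          ih j (by omega) (by omega)] at h
        refine mul_left_cancel₀ (mul_ne_zero hs.ne' ht.ne') ?_
        linear_combination h - c * hv.interior j (by omega)
  have hFu : ∀ w, F w = c * u w := by
    intro w
    obtain ⟨hi, h⟩ := cls_spec hab hne w
    show F w = c * v (cls hab hne w)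
    set i := cls hab hne w
    rcases h with h | h | h | h <;> rw [h]
    · exact hval i (by omega)
    · rw [hFf.neg]; exact hval i (by omega)
    · rw [hFright]; exact hval i (by omega)
    · rw [hFright, hFf.neg]; exact hval i (by omega)
  have hc_eq : c = ∑ z : Ch P, u (dist P o z) ^ 2 := by
    rw [hc, ← dist_self o, hF]
    refine Finset.sum_congr rfl fun y _ => ?_
    rw [dist_symm o y, huf.inv, pow_two]
  have hcpos : 0 < c := by
    rw [hc_eq]
    refine lt_of_lt_of_le one_pos ?_
    refine le_trans (le_of_eq ?_) (Finset.single_le_sum (f := fun z => u (dist P o z) ^ 2)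
      (fun z _ => sq_nonneg _) (Finset.mem_univ o))
    simp [dist_self, hu1]
  have hc_eq' : c = ∑ z : Ch P, v (cls hab hne (dist P o z)) ^ 2 := hc_eq
  rw [← hc_eq']
  exact exists_nat_eq hu1 huf.inv hcpos.ne' fun p z => by rw [← hFu, hF]

omit hne in
theorem size_zpow {i : ℕ} (hi : 2 * i ≤ ord a b) :
    size (rot a b ^ (i : ℤ)) = ((par a : ℝ) * par b) ^ i := by
  induction i with
  | zero => simp [size_one]
  | succ i ih =>
    have h1 : size (rot a b ^ (i : ℤ) * refl P a) = (par a : ℝ) * size (rot a b ^ (i : ℤ)) :=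
      size_mul (by rw [len_zpow hab (by omega), len_zpow_mul hab (by omega)]; omega)
    have e : rot a b ^ ((i + 1 : ℕ) : ℤ) = rot a b ^ (i : ℤ) * refl P a * refl P b := by
      rw [rot_zpow_reflA_mul_reflB]; push_cast; rfl
    rw [e, size_mul (by rw [← e, len_zpow hab hi, len_zpow_mul hab (by omega)]; omega), h1,
      ih (by omega)]
    ring

omit hne in
theorem size_zpow_mul {i : ℕ} (hi : 2 * i + 1 ≤ ord a b) :
    size (rot a b ^ (i : ℤ) * refl P a) = (par a : ℝ) * ((par a : ℝ) * par b) ^ i := by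
  rw [size_mul (by rw [len_zpow hab (by omega), len_zpow_mul hab hi]; omega),
    size_zpow hab (by omega)]

omit hne in
theorem size_zpow_neg : ∀ {i : ℕ}, 2 * i ≤ ord a b →
    size (rot a b ^ (-(i : ℤ))) = ((par a : ℝ) * par b) ^ i := by
  intro i
  induction i with
  | zero => simp [size_one]
  | succ i ih =>
    intro hi
    have e1 : rot a b ^ (-(((i : ℤ)) + 1)) * refl P a = rot a b ^ (-(i : ℤ)) * refl P b := by
      rw [rot_zpow_mul_reflB]; ring_nf
    have h1 : size (rot a b ^ (-(((i : ℤ)) + 1)) * refl P a) =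
        (par b : ℝ) * size (rot a b ^ (-(i : ℤ))) := by
      rw [e1, size_mul (by
        rw [← e1, len_zpow_neg hab (by omega), len_zpow_neg_mul hab (by omega)]; omega)]
    have e2 : rot a b ^ (-((i + 1 : ℕ) : ℤ)) =
        rot a b ^ (-(((i : ℤ)) + 1)) * refl P a * refl P a := by
      rw [mul_refl_cancel]; push_cast; rfl
    rw [e2, size_mul (by rw [← e2, len_zpow_neg hab hi, len_zpow_neg_mul hab (by omega)]; omega),
      h1, ih (by omega)]
    ring

omit hne in
theorem size_zpow_neg_mul {i : ℕ} (hi : 2 * i + 1 ≤ ord a b) :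
    size (rot a b ^ (-((i : ℤ) + 1)) * refl P a) = (par b : ℝ) * ((par a : ℝ) * par b) ^ i := by
  have e1 : rot a b ^ (-(((i : ℤ)) + 1)) * refl P a = rot a b ^ (-(i : ℤ)) * refl P b := by
    rw [rot_zpow_mul_reflB]; ring_nf
  rw [e1, size_mul (by
    rw [← e1, len_zpow_neg hab (by omega), len_zpow_neg_mul hab hi]; omega),
    size_zpow_neg hab (by omega)]

omit hne in
/-- For odd `n` the two parameters agree. -/
theorem par_eq_of_odd {m : ℕ} (hm : ord a b = 2 * m + 1) : (par a : ℝ) = par b := by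
  have e : rot a b ^ (m : ℤ) = rot a b ^ (-((m : ℤ) + 1)) := zpow_eq_of_dvd ⟨1, by omega⟩
  have h1 := size_zpow_mul hab (i := m) (by omega)
  rw [e, size_zpow_neg_mul hab (by omega)] at h1
  have hs : (0 : ℝ) < par a := by
    have := two_le_par (P := P) a
    exact_mod_cast (by omega : 0 < par a)
  have ht : (0 : ℝ) < par b := by
    have := two_le_par (P := P) b
    exact_mod_cast (by omega : 0 < par b)
  exact (mul_right_cancel₀ (pow_ne_zero _ (mul_ne_zero hs.ne' ht.ne')) h1).symm

open scoped Classical in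
theorem count_class (i : ℕ) (T0 : Finset (W P))
    (hT : ∀ w, cls hab hne w = i ↔ w ∈ T0) :
    ((Finset.univ.filter fun z : Ch P => cls hab hne (dist P (QuotientGroup.mk 1) z) = i).card : ℝ) =
      ∑ w ∈ T0, size w := by
  rw [Finset.card_filter, Nat.cast_sum]
  simp only [size]
  rw [Finset.sum_comm]
  refine Finset.sum_congr rfl fun z _ => ?_
  simp only [Finset.sum_ite_eq, hT]
  split_ifs <;> simp

/-- The sum of squares, evaluated by classes. -/
theorem sum_eq (v : ℕ → ℝ) {m : ℕ} (hm : ord a b / 2 = m) :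
    ∑ z : Ch P, v (cls hab hne (dist P (QuotientGroup.mk 1) z)) ^ 2 =
      ((par a : ℝ) + 1) * v 0 ^ 2 + ∑ j ∈ Finset.range m,
        (if 2 * (j + 1) < ord a b then ((par a : ℝ) + 1) ^ 2 else (par a : ℝ) + 1) *
          (par b : ℝ) * ((par a : ℝ) * par b) ^ j * v (j + 1) ^ 2 := by
  classical
  have hn := two_le_ord hne
  have hmaps : ∀ z ∈ (Finset.univ : Finset (Ch P)),
      cls hab hne (dist P (QuotientGroup.mk 1) z) ∈ Finset.range (m + 1) := by
    intro z _
    have := (cls_spec hab hne (dist P (QuotientGroup.mk 1) z)).1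
    rw [Finset.mem_range]
    omega
  rw [← Finset.sum_fiberwise_of_maps_to hmaps]
  have hfib : ∀ i, (∑ z ∈ Finset.univ.filter
      (fun z : Ch P => cls hab hne (dist P (QuotientGroup.mk 1) z) = i),
      v (cls hab hne (dist P (QuotientGroup.mk 1) z)) ^ 2) =
      ((Finset.univ.filter fun z : Ch P => cls hab hne (dist P (QuotientGroup.mk 1) z) = i).card : ℝ) *
        v i ^ 2 := by
    intro i
    rw [Finset.sum_congr rfl (g := fun _ => v i ^ 2) fun z hz => by rw [(Finset.mem_filter.mp hz).2],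
      Finset.sum_const, nsmul_eq_mul]
  rw [Finset.sum_congr rfl fun i _ => hfib i, Finset.sum_range_succ', add_comm]
  have hmem : ∀ i, 2 * i ≤ ord a b → ∀ w : W P, cls hab hne w = i ↔
      (w = rot a b ^ (i : ℤ) ∨ w = rot a b ^ (-(i : ℤ)) ∨ w = rot a b ^ (i : ℤ) * refl P a ∨
        w = rot a b ^ (-(i : ℤ)) * refl P a) := fun i hi w =>
    ⟨fun h => h ▸ (cls_spec hab hne w).2, cls_eq hab hne hi⟩
  congr 1
  · rw [count_class hab hne 0 {1, refl P a} (fun w => by rw [hmem 0 (by omega) w]; simp)]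
    rw [Finset.sum_pair (refl_ne_one P a).symm, size_one]
    have h := size_zpow_mul hab (i := 0) (a := a) (b := b) (by omega)
    rw [Nat.cast_zero, zpow_zero, one_mul, pow_zero, mul_one] at h
    rw [h]; ring
  · refine Finset.sum_congr rfl fun j hj => ?_
    rw [Finset.mem_range] at hj
    have hj1 : 2 * (j + 1) ≤ ord a b := by omega
    have hne1 : rot a b ^ ((j + 1 : ℕ) : ℤ) ≠ rot a b ^ (-((j + 1 : ℕ) : ℤ)) * refl P a :=
      zpow_ne_zpow_mul a b _ _
    have hnm : size (rot a b ^ (-((j + 1 : ℕ) : ℤ)) * refl P a) =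
        (par b : ℝ) * ((par a : ℝ) * par b) ^ j := by
      rw [Nat.cast_succ]; exact size_zpow_neg_mul hab (by omega)
    by_cases hlt : 2 * (j + 1) < ord a b
    · rw [if_pos hlt, count_class hab hne (j + 1)
        {rot a b ^ ((j + 1 : ℕ) : ℤ), rot a b ^ (-((j + 1 : ℕ) : ℤ)),
          rot a b ^ ((j + 1 : ℕ) : ℤ) * refl P a, rot a b ^ (-((j + 1 : ℕ) : ℤ)) * refl P a}
        (fun w => by rw [hmem _ hj1 w]; simp)]
      have hd : rot a b ^ ((j + 1 : ℕ) : ℤ) ≠ rot a b ^ (-((j + 1 : ℕ) : ℤ)) := fun e =>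
        not_dvd_of_lt (by omega) (by omega) (by omega) (dvd_of_zpow_eq e)
      rw [Finset.sum_insert, Finset.sum_insert, Finset.sum_pair, size_zpow hab hj1,
        size_zpow_neg hab hj1, size_zpow_mul hab (by omega), hnm]
      · ring
      · exact fun e => hd (mul_right_cancel e)
      · simp only [Finset.mem_insert, Finset.mem_singleton, not_or]
        exact ⟨zpow_ne_zpow_mul a b _ _, zpow_ne_zpow_mul a b _ _⟩
      · simp only [Finset.mem_insert, Finset.mem_singleton, not_or]
        exact ⟨hd, zpow_ne_zpow_mul a b _ _, hne1⟩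
    · rw [if_neg hlt]
      have e : rot a b ^ ((j + 1 : ℕ) : ℤ) = rot a b ^ (-((j + 1 : ℕ) : ℤ)) :=
        zpow_eq_of_dvd ⟨1, by omega⟩
      rw [count_class hab hne (j + 1)
        {rot a b ^ ((j + 1 : ℕ) : ℤ), rot a b ^ (-((j + 1 : ℕ) : ℤ)) * refl P a}
        (fun w => by rw [hmem _ hj1 w, e]; simp)]
      rw [Finset.sum_pair hne1, size_zpow hab hj1, hnm]
      ring

end Cfsg.Agent.Lib.FeitHigman
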