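import Cfsg.Agent.Lib.FeitHigman.Polygon
import Cfsg.Agent.Lib.FeitHigman.Arith

/-!
Trigonometric eigenfunctions of the generalised polygon, and the bound on its diameter.
-/

set_option autoImplicit false
set_option linter.unusedSectionVars false

namespace Cfsg.Agent.Lib.FeitHigman

open Real Cfsg.Agent.Lib.BNPair

/-- The solutions of the recurrence `x (i + 2) + x i = 2 cos θ x (i + 1)` with `x 0 = 1`. -/
noncomputable def phi (θ B : ℝ) (i : ℕ) : ℝ := cos (i * θ) + B * sin (i * θ)

theorem phi_zero (θ B : ℝ) : phi θ B 0 = 1 := by simp [phi]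

theorem phi_rec (θ B : ℝ) (j : ℕ) :
    phi θ B (j + 2) + phi θ B j = 2 * cos θ * phi θ B (j + 1) := by
  simp only [phi]
  push_cast
  rw [show ((j : ℝ) + 2) * θ = ((j : ℝ) + 1) * θ + θ by ring,
    show (j : ℝ) * θ = ((j : ℝ) + 1) * θ - θ by ring, cos_add, cos_sub, sin_add, sin_sub]
  ring

/-- The sum of the squares of `phi`, multiplied by `2 sin θ`. -/
theorem sum_phi_sq (θ B : ℝ) (n : ℕ) :
    2 * sin θ * ∑ i ∈ Finset.range n, phi θ B i ^ 2 =
      n * (1 + B ^ 2) * sin θ + (1 - B ^ 2) / 2 * (sin ((2 * (n : ℝ) - 1) * θ) + sin θ) +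
        B * (cos θ - cos ((2 * (n : ℝ) - 1) * θ)) := by
  induction n with
  | zero => simp
  | succ n ih =>
    rw [Finset.sum_range_succ, mul_add, ih, phi]
    push_cast
    set x : ℝ := (n : ℝ) * θ with hx
    rw [show (2 * ((n : ℝ) + 1) - 1) * θ = 2 * x + θ by rw [hx]; ring,
      show (2 * (n : ℝ) - 1) * θ = 2 * x - θ by rw [hx]; ring, sin_add, sin_sub, cos_add, cos_sub,
      cos_two_mul, sin_two_mul]
    linear_combination 2 * B ^ 2 * sin θ * sin_sq_add_cos_sq x

variable {G : Type*} [Group G] [Finite G] {P : Cfsg.BNPair G} [Fintype (Ch P)] {a b : P.S}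
variable (hab : ∀ x : P.S, x = a ∨ x = b) (hne : a ≠ b)
include hab hne

/-- Rationality of the sum of squares attached to an eigenfunction. -/
theorem exists_rat_sum {lam : ℝ} {v : ℕ → ℝ}
    (hv : IsEigen (ord a b) (par a : ℝ) (par b : ℝ) lam v) :
    ∃ R : ℚ, ∑ z : Ch P, v (cls hab hne (dist P (QuotientGroup.mk 1) z)) ^ 2 = R := by
  obtain ⟨k, hk⟩ := exists_card_eq hab hne hv
  have hpos : (0 : ℝ) < Fintype.card (Ch P) := by
    exact_mod_cast Fintype.card_pos_iff.mpr ⟨(QuotientGroup.mk 1 : Ch P)⟩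
  have hk0 : (k : ℝ) ≠ 0 := by
    intro h
    rw [h, mul_zero] at hk
    linarith
  refine ⟨(Fintype.card (Ch P) : ℚ) / k, ?_⟩
  push_cast
  rw [hk, mul_div_cancel_right₀ _ hk0]

/-- The even case: the constraint at every angle `kπ/m`. -/
theorem even_constraint {m : ℕ} (hn : ord a b = 2 * m) {k : ℕ} (hk1 : 1 ≤ k) (hk : k < m) :
    Constraint ((par a : ℚ) * (par b : ℚ)) (k * π / m) := by
  set s : ℝ := (par a : ℝ) with hs'
  set t : ℝ := (par b : ℝ) with ht'
  have hs : 2 ≤ s := by rw [hs']; exact_mod_cast two_le_par a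
  have ht : 2 ≤ t := by rw [ht']; exact_mod_cast two_le_par b
  set q : ℝ := √(s * t) with hq'
  have hqq : q ^ 2 = s * t := sq_sqrt (by positivity)
  have hq : 0 < q := sqrt_pos.mpr (by positivity)
  set θ : ℝ := k * π / m with hθ
  have hm0 : (0 : ℝ) < m := by exact_mod_cast (by omega : 0 < m)
  have hk0 : (0 : ℝ) < k := by exact_mod_cast (by omega : 0 < k)
  have hmθ : (m : ℝ) * θ = k * π := by rw [hθ]; field_simp
  have hsin : 0 < sin θ := by
    refine sin_pos_of_pos_of_lt_pi (by positivity) ?_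
    rw [hθ, div_lt_iff₀ hm0]
    have : (k : ℝ) < m := by exact_mod_cast hk
    nlinarith [pi_pos]
  set c : ℝ := cos θ with hc
  set lam : ℝ := t - 1 + 2 * q * c with hlam
  set p1 : ℝ := q * lam / (t * (1 + s)) with hp1
  set B : ℝ := (p1 - c) / sin θ with hB'
  have hB : B * sin θ = p1 - c := by rw [hB', div_mul_cancel₀ _ hsin.ne']
  have hp : t * (1 + s) * p1 = q * lam := by
    rw [hp1, mul_div_cancel₀ _ (by positivity)]
  have hφ1 : phi θ B 1 = p1 := by
    simp only [phi, Nat.cast_one, one_mul]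
    rw [← hc, hB]; ring
  set ε : ℝ := cos ((k : ℝ) * π) with hε
  have hεε : ε ^ 2 = 1 := by
    have := sin_sq_add_cos_sq ((k : ℝ) * π)
    rw [sin_nat_mul_pi] at this
    rw [hε]; linarith
  have hφm : phi θ B m = ε := by
    rw [phi, hmθ, sin_nat_mul_pi, mul_zero, add_zero]
  set v : ℕ → ℝ := fun i => phi θ B i / q ^ i with hv'
  have hv : IsEigen (ord a b) s t lam v := by
    refine ⟨by simp [hv', phi_zero], ?_, ?_, ?_, fun j hj => by omega⟩
    · simp only [hv', pow_one, hφ1]
      rw [hp1]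
      field_simp
      ring
    · intro j _
      have e : phi θ B (j + 2) = 2 * c * phi θ B (j + 1) - phi θ B j := by
        rw [hc, ← phi_rec θ B j]; ring
      simp only [hv', e, hlam]
      rw [show q ^ (j + 2) = q ^ j * q * q by ring, show q ^ (j + 1) = q ^ j * q by ring, ← hqq]
      field_simp
      ring
    · intro j hj
      have hjm : m = j + 1 := by omega
      have hj' : phi θ B j = ε * (2 * c - p1) := by
        have e : (j : ℝ) * θ = k * π - θ := by
          rw [← hmθ, hjm]; push_cast; ring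
        rw [phi, e, cos_sub, sin_sub, sin_nat_mul_pi, ← hε, ← hc]
        linear_combination -ε * hB
      have key : (s + 1) * (q * (2 * c - p1) + (t - 1)) = lam := by
        refine mul_left_cancel₀ (show t ≠ 0 by linarith) ?_
        rw [hlam] at hp ⊢
        linear_combination -q * hp - (t - 1 + 2 * q * c) * hqq
      simp only [hv', hj']
      rw [show phi θ B (j + 1) = ε by rw [← hjm]; exact hφm, show q ^ (j + 1) = q ^ j * q by ring]
      field_simp
      linear_combination ε * key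
  obtain ⟨R, hR⟩ := exists_rat_sum hab hne hv
  rw [sum_eq hab hne v (show ord a b / 2 = m by omega)] at hR
  obtain ⟨m', hm'⟩ : ∃ m', m = m' + 1 := ⟨m - 1, by omega⟩
  have hterm : ∀ j, t * (s * t) ^ j * v (j + 1) ^ 2 = phi θ B (j + 1) ^ 2 / s := by
    intro j
    simp only [hv', div_pow]
    rw [← pow_mul, mul_comm (j + 1) 2, pow_mul, hqq, pow_succ]
    field_simp
    ring
  have hS : ∑ i ∈ Finset.range m, phi θ B i ^ 2 = m * (1 + B ^ 2) / 2 := by
    have h := sum_phi_sq θ B m
    rw [show (2 * (m : ℝ) - 1) * θ = (k : ℝ) * (2 * π) - θ by linear_combination 2 * hmθ,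
      sin_nat_mul_two_pi_sub, cos_nat_mul_two_pi_sub] at h
    refine mul_left_cancel₀ (show 2 * sin θ ≠ 0 by positivity) ?_
    rw [h]; ring
  rw [hm', Finset.sum_range_succ', phi_zero] at hS
  rw [hm', Finset.sum_range_succ, show v 0 = 1 by simp [hv', phi_zero]] at hR
  rw [Finset.sum_congr rfl (g := fun j => (s + 1) ^ 2 * (phi θ B (j + 1) ^ 2 / s))
      (fun j hj => by
        rw [Finset.mem_range] at hj
        rw [if_pos (by omega), mul_assoc, mul_assoc, ← mul_assoc t, hterm]),
    if_neg (by omega), mul_assoc _ t, mul_assoc, hterm, ← hm', hφm, hεε, ← Finset.mul_sum,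
    ← Finset.sum_div] at hR
  rw [← hm'] at hS
  set Q : ℚ := R / (2 * m) with hQ
  have h2 : (Q : ℝ) * (4 * s) = (1 + B ^ 2) * (1 + s) ^ 2 := by
    rw [hQ]
    push_cast
    rw [← hR]
    field_simp
    linear_combination 4 * (s + 1) ^ 2 * hS
  have hQ1 : (1 : ℚ) < Q := by
    have : (1 : ℝ) < (Q : ℝ) := by
      by_contra hle
      rw [not_lt] at hle
      nlinarith [sq_nonneg B, mul_nonneg (sq_nonneg B) (sq_nonneg (1 + s))]
    exact_mod_cast this
  have hsc : sin θ ^ 2 + c ^ 2 = 1 := sin_sq_add_cos_sq θ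
  have h1 : (1 + B ^ 2) * sin θ ^ 2 = p1 ^ 2 - 2 * c * p1 + 1 := by
    linear_combination (B * sin θ + p1 - c) * hB + hsc
  set x : ℝ := 2 * q * c with hx
  have e3 : t * (1 + s) ^ 2 * (p1 ^ 2 - 2 * c * p1 + 1) =
      s * lam ^ 2 - x * (1 + s) * lam + t * (1 + s) ^ 2 := by
    refine mul_left_cancel₀ (show t ≠ 0 by linarith) ?_
    rw [hx]
    linear_combination (t * (1 + s) * p1 + q * lam - 2 * c * t * (1 + s)) * hp + lam ^ 2 * hqq
  have quad : ((Q : ℝ) - 1) * x ^ 2 + (s - 1) * (t - 1) * x +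
      (s * (t - 1) ^ 2 + t * (1 + s) ^ 2 - 4 * s * t * Q) = 0 := by
    rw [hlam, hx] at e3
    rw [hx]
    linear_combination 4 * (Q : ℝ) * c ^ 2 * hqq + 4 * s * t * (Q : ℝ) * hsc -
      t * sin θ ^ 2 * h2 - t * (1 + s) ^ 2 * h1 - e3
  refine ⟨-(((par a : ℚ) - 1) * ((par b : ℚ) - 1)) / (Q - 1),
    -((par a : ℚ) * ((par b : ℚ) - 1) ^ 2 + (par b : ℚ) * (1 + (par a : ℚ)) ^ 2 -
      4 * (par a : ℚ) * (par b : ℚ) * Q) / (Q - 1), ?_, ?_⟩
  · refine div_neg_of_neg_of_pos (neg_neg_of_pos (mul_pos ?_ ?_)) (by linarith)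
    · have := two_le_par (P := P) a
      have : (2 : ℚ) ≤ (par a : ℚ) := by exact_mod_cast this
      linarith
    · have := two_le_par (P := P) b
      have : (2 : ℚ) ≤ (par b : ℚ) := by exact_mod_cast this
      linarith
  · have hQ1' : (Q : ℝ) - 1 ≠ 0 := by
      have : (1 : ℝ) < (Q : ℝ) := by exact_mod_cast hQ1
      linarith
    push_cast
    rw [← hs', ← ht', ← hq', ← hc, ← hx]
    field_simp
    linear_combination quad

/-- The odd case: only the triangle. -/
theorem odd_eq_three {m : ℕ} (hn : ord a b = 2 * m + 1) : ord a b = 3 := by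
  have hn2 := two_le_ord hne
  have hst := par_eq_of_odd hab hn
  set q : ℝ := (par b : ℝ) with hq'
  have hq : 2 ≤ q := by rw [hq']; exact_mod_cast two_le_par b
  set n : ℕ := ord a b with hn'
  have hn0 : (0 : ℝ) < n := by exact_mod_cast (by omega : 0 < n)
  set h : ℝ := π / n with hh
  set θ : ℝ := 2 * π / n with hθ
  have hθh : θ = 2 * h := by rw [hθ, hh]; ring
  have hnh : (n : ℝ) * h = π := by rw [hh]; field_simp
  have hn3 : (3 : ℝ) ≤ n := by exact_mod_cast (by omega : 3 ≤ n)
  have hhpos : 0 < h := by positivity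
  have hsinh : 0 < sin h := sin_pos_of_pos_of_lt_pi hhpos (by nlinarith)
  have hsin : 0 < sin θ := sin_pos_of_pos_of_lt_pi (by positivity) (by nlinarith)
  set c : ℝ := cos θ with hc
  set r : ℝ := (q - 1) / (q + 1) with hr
  set B : ℝ := r * cos h / sin h with hB'
  have hB : B * sin h = r * cos h := by rw [hB', div_mul_cancel₀ _ hsinh.ne']
  set lam : ℝ := q - 1 + 2 * q * c with hlam
  have hsθ : sin θ = 2 * sin h * cos h := by rw [hθh, sin_two_mul]
  have hcθ : c = 2 * cos h ^ 2 - 1 := by rw [hc, hθh, cos_two_mul]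
  have hrq : r * (q + 1) = q - 1 := by rw [hr, div_mul_cancel₀ _ (by positivity)]
  have hφ1 : phi θ B 1 * (1 + q) = lam := by
    simp only [phi, Nat.cast_one, one_mul]
    rw [← hc, hsθ, hlam, hcθ]
    linear_combination 2 * cos h * (1 + q) * hB + 2 * cos h ^ 2 * hrq
  have hm1 : ((m + 1 : ℕ) : ℝ) * θ = h + π := by
    rw [← hnh, hθh, hn]; push_cast; ring
  have hm0 : (m : ℝ) * θ = π - h := by
    rw [← hnh, hθh, hn]; push_cast; ring
  set v : ℕ → ℝ := fun i => phi θ B i / q ^ i with hv'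
  have hv : IsEigen n (par a : ℝ) (par b : ℝ) lam v := by
    rw [hst]
    refine ⟨by simp [hv', phi_zero], ?_, ?_, fun j hj => by omega, ?_⟩
    · simp only [hv', pow_one]
      rw [← hq']
      field_simp
      linear_combination hφ1
    · intro j _
      have e : phi θ B (j + 2) = 2 * c * phi θ B (j + 1) - phi θ B j := by
        rw [hc, ← phi_rec θ B j]; ring
      simp only [hv', e, hlam]
      rw [show q ^ (j + 2) = q ^ j * q * q by ring, show q ^ (j + 1) = q ^ j * q by ring]
      field_simp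
      ring
    · intro j hj
      obtain rfl : j = m := by omega
      have e : phi θ B (j + 1) = q * phi θ B j := by
        rw [phi, phi, hm1, hm0, cos_add_pi, sin_add_pi, cos_pi_sub, sin_pi_sub]
        linear_combination -(1 + q) * hB - cos h * hrq
      simp only [hv', e]
      rw [show q ^ (j + 1) = q ^ j * q by ring]
      field_simp
  obtain ⟨R, hR⟩ := exists_rat_sum hab hne hv
  rw [sum_eq hab hne v (show ord a b / 2 = m by omega), hst, show v 0 = 1 by simp [hv', phi_zero]] at hR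
  have hterm : ∀ j, q * (q * q) ^ j * v (j + 1) ^ 2 = phi θ B (j + 1) ^ 2 / q := by
    intro j
    simp only [hv', div_pow]
    rw [← pow_mul, mul_comm (j + 1) 2, pow_mul, pow_two q, pow_succ]
    field_simp
    ring
  rw [Finset.sum_congr rfl (g := fun j => (q + 1) ^ 2 * (phi θ B (j + 1) ^ 2 / q))
      (fun j hj => by
        rw [Finset.mem_range] at hj
        rw [if_pos (by omega), mul_assoc, mul_assoc, ← mul_assoc q, hterm]),
    ← Finset.mul_sum, ← Finset.sum_div] at hR
  clear_value B r lam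
  have hS : 2 * (∑ j ∈ Finset.range m, phi θ B (j + 1) ^ 2 + 1) =
      (m + 1) * (1 + B ^ 2) + (1 - B ^ 2) / 2 - r := by
    have h0 := sum_phi_sq θ B (m + 1)
    have e1 : (2 * ((m + 1 : ℕ) : ℝ) - 1) * θ = 2 * π := by
      rw [← hnh, hθh, hn]; push_cast; ring
    rw [Finset.sum_range_succ', phi_zero, one_pow, e1, sin_two_pi, cos_two_pi, ← hc] at h0
    push_cast at h0
    refine mul_left_cancel₀ hsin.ne' ?_
    rw [hsθ, hcθ] at h0
    rw [hsθ]
    linear_combination h0 + (-2 * sin h) * hB + 2 * B * sin_sq_add_cos_sq h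
  have h2 : (R : ℝ) * (4 * q) = (q + 1) ^ 2 * n * (1 + B ^ 2) := by
    rw [← hR, hn]
    push_cast
    field_simp
    linear_combination 2 * (q + 1) * hS - 2 * hrq
  set ρ : ℚ := R * (4 * (par b : ℚ)) / (((par b : ℚ) + 1) ^ 2 * (n : ℚ)) - 1 with hρ
  have hρB : (ρ : ℝ) = B ^ 2 := by
    rw [hρ]
    push_cast
    rw [← hq', h2]
    field_simp
    ring
  have hrpos : 0 < r := by rw [hr]; exact div_pos (by linarith) (by linarith)
  have hcB : B ^ 2 * (1 - c) = r ^ 2 * (1 + c) := by
    rw [hcθ]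
    linear_combination 2 * (B * sin h + r * cos h) * hB - 2 * B ^ 2 * sin_sq_add_cos_sq h
  have hcrat : cos (2 * π / (n : ℝ)) =
      (((ρ - (((par b : ℚ) - 1) / ((par b : ℚ) + 1)) ^ 2) /
        (ρ + (((par b : ℚ) - 1) / ((par b : ℚ) + 1)) ^ 2) : ℚ) : ℝ) := by
    push_cast
    rw [← hθ, ← hc, ← hq', ← hr, hρB, eq_div_iff (by positivity)]
    linear_combination -hcB
  have htot := totient_le_two_of_rat (by omega) hcrat
  have h120 := dvd_of_totient_le_four (by omega) (htot.trans (by norm_num))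
  have hle := Nat.le_of_dvd (by norm_num) h120
  have hodd : n % 2 = 1 := by omega
  clear_value n
  interval_cases n <;> first | omega | (revert htot; decide)

/-- The Feit–Higman bound. -/
theorem ord_mem : ord a b = 2 ∨ ord a b = 3 ∨ ord a b = 4 ∨ ord a b = 6 ∨ ord a b = 8 := by
  have hn2 := two_le_ord hne
  rcases Nat.even_or_odd (ord a b) with ⟨m, hm⟩ | ⟨m, hm⟩
  · have hD : (0 : ℚ) < (par a : ℚ) * (par b : ℚ) := by
      have h1 := two_le_par (P := P) a
      have h2 := two_le_par (P := P) b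
      have h1' : (0 : ℚ) < (par a : ℚ) := by exact_mod_cast (by omega : 0 < par a)
      have h2' : (0 : ℚ) < (par b : ℚ) := by exact_mod_cast (by omega : 0 < par b)
      positivity
    have := le_four_of_constraint hD fun k hk1 hk =>
      even_constraint hab hne (m := m) (by omega) hk1 hk
    omega
  · exact Or.inr (Or.inl (odd_eq_three hab hne hm))

end Cfsg.Agent.Lib.FeitHigman
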